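import Cfsg.Agent.Lib.Lead.Fi22Two.Cent
import Cfsg.Agent.Lib.Spor.M22UTripleCent

/-!
The centraliser of a product of two commuting members in a group of type M(22).
-/

set_option autoImplicit false
set_option maxRecDepth 100000
set_option linter.unusedSectionVars false

namespace Cfsg.Agent.Lead.Fi22Two

open Cfsg.Agent.Spor.CC Cfsg.Agent.Spor.Fi22Cert Cfsg.Agent.Spor.Fi22Cert.U62Act
open Cfsg.Agent.Spor.M22U
open Cfsg.Agent.Spor.M22U.Tuples (P p0)

universe u
variable {G : Type u} [Group G] [Finite G] {D : Set G}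
variable (hD : Cfsg.IsThreeTranspositionGroup D) (hprim : Cfsg.IsPrimitiveUnderConj D)
  (ht : Cfsg.IsOfTypeM22 G D)

theorem pCore_map_le {X Y : Type*} [Group X] [Group Y] [Finite X] [Finite Y] (f : X ≃* Y) :
    (Cfsg.pCore 2 X).map f.toMonoidHom ≤ Cfsg.pCore 2 Y := by
  haveI : ((Cfsg.pCore 2 X).map f.toMonoidHom).Normal := Subgroup.Normal.map inferInstance _ f.surjective
  exact Fusion.le_pCore ((Fusion.isPGroup_pCore 2 X).map _)

theorem gfit_map {A B : Type*} [Group A] [Group B] [Finite A] [Finite B] (θ : A ≃* B)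
    (h : Cfsg.generalizedFittingSubgroup A = Cfsg.pCore 2 A) :
    (Cfsg.generalizedFittingSubgroup A).map θ.toMonoidHom = Cfsg.generalizedFittingSubgroup B := by
  haveI : Fact (Nat.Prime 2) := ⟨Nat.prime_two⟩
  have hp : (Cfsg.pCore 2 A).map θ.toMonoidHom = Cfsg.pCore 2 B := by
    refine le_antisymm (pCore_map_le θ) fun y hy => ⟨θ.symm y, pCore_map_le θ.symm ⟨y, hy, rfl⟩, θ.apply_symm_apply y⟩
  rw [h, hp]
  symm
  rw [Fusion.gfit_eq_pCore_iff]
  intro y hy
  have h' := Fusion.gfit_eq_pCore_iff.mp h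
  have : θ.symm y ∈ Cfsg.pCore 2 A := h' (Subgroup.mem_centralizer_iff.mpr fun x hx => by
    apply θ.injective
    rw [map_mul, map_mul, θ.apply_symm_apply]
    exact Subgroup.mem_centralizer_iff.mp hy (θ x) (hp ▸ ⟨x, hx, rfl⟩))
  rw [← hp]
  exact ⟨θ.symm y, this, θ.apply_symm_apply y⟩

include hD hprim ht in
theorem card_cent_le {a b : G} (ha : a ∈ D) (hb : b ∈ D) (hab : a ≠ b) (cab : Commute a b) :
    Nat.card ↥(Subgroup.centralizer ({a * b} : Set G)) ≤ 1024 * 51840 := by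
  have hCa := (Facts.cover_at hD hprim ht ha).1
  obtain ⟨e, he, hea, heb⟩ := Tuples.normal2 hD hprim ht ha hb hab cab
  have hPD : ∀ k < 693, e (P k) ∈ D ∧ e (P k) ≠ a ∧ Commute a (e (P k)) := by
    intro k hk
    obtain ⟨h1, h2, h3⟩ := Fischer.frame.pt_mem hk
    refine ⟨by rw [← he]; exact ⟨_, h1, rfl⟩, fun h => h2 ?_, ?_⟩
    · rw [Tuples.frame_a]; exact e.injective (h.trans hea.symm)
    · rw [← hea, ← Tuples.frame_a]; exact h3.map e
  have hPinj : Set.InjOn (fun k => e (P k)) (Set.Iio 693) := fun i hi j hj h =>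
    Fischer.frame.pt_inj hi hj (e.injective h)
  have o1 : (fun k => e (P k)) '' Set.Iio 693 ⊆
      (fun h => h * b * h⁻¹) '' (Subgroup.centralizer ({a} : Set G) : Set G) := by
    rintro y ⟨k, hk, rfl⟩
    obtain ⟨h1, h2, h3⟩ := hPD k hk
    obtain ⟨g, g1, g2⟩ := Transit.conj2 hD hprim ht ha hb hab cab ha h1 (Ne.symm h2) h3
    exact ⟨g, Subgroup.mem_centralizer_singleton_iff.mpr (mul_inv_eq_iff_eq_mul.mp g1), g2⟩
  have hIio : ((fun k => e (P k)) '' Set.Iio 693).ncard = 693 := by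
    rw [Set.ncard_image_of_injOn hPinj, ← Finset.coe_Iio, Set.ncard_coe_finset, Nat.card_Iio]
  have h693 := Set.ncard_le_ncard o1 (Set.toFinite _)
  rw [hIio] at h693
  have e1 := TripleCent.orbit_stab (Subgroup.centralizer ({a} : Set G)) b
  rw [hCa] at e1
  set J := Subgroup.centralizer ({a * b} : Set G)
  have o2 : ((fun h => h * a * h⁻¹) '' (J : Set G)) ⊆ ({a, b} : Set G) := by
    rintro y ⟨g, hg, rfl⟩
    have hprod : a * b = (g * a * g⁻¹) * (g * b * g⁻¹) := by
      rw [show (g * a * g⁻¹) * (g * b * g⁻¹) = g * (a * b) * g⁻¹ by group,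
        Subgroup.mem_centralizer_singleton_iff.mp hg, mul_inv_cancel_right]
    exact Triples.pair_member hD hprim ht ha hb (hD.2.1 g a ha) (hD.2.1 g b hb) hab cab
      (Spor.commute_conj_iff.mpr cab) hprod
  have h2 := Set.ncard_le_ncard o2 (Set.toFinite _)
  rw [Set.ncard_pair hab] at h2
  have e2 := TripleCent.orbit_stab J a
  have hsub : J ⊓ Subgroup.centralizer ({a} : Set G) ≤
      Subgroup.centralizer ({a} : Set G) ⊓ Subgroup.centralizer ({b} : Set G) := by
    intro g hg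
    obtain ⟨h1, h2⟩ := Subgroup.mem_inf.mp hg
    refine Subgroup.mem_inf.mpr ⟨h2, Subgroup.mem_centralizer_singleton_iff.mpr ?_⟩
    have h3 : Commute g (a⁻¹ * (a * b)) :=
      (show Commute g a from Subgroup.mem_centralizer_singleton_iff.mp h2).inv_right.mul_right
        (Subgroup.mem_centralizer_singleton_iff.mp h1)
    rw [inv_mul_cancel_left] at h3
    exact h3
  have h3 := Subgroup.card_le_of_le hsub
  have arith : ∀ n m k K N : ℕ, 693 ≤ n → n * K = 18393661440 → m ≤ 2 → k ≤ K → m * k = N →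
      N ≤ 1024 * 51840 := by
    intro n m k K N hn hnK hm hk hN
    have h4 : 693 * K ≤ n * K := Nat.mul_le_mul_right _ hn
    have h5 : m * k ≤ 2 * K := Nat.mul_le_mul hm hk
    omega
  exact arith _ _ _ _ _ h693 e1 h2 h3 e2

include hD hprim ht in
theorem result {a b : G} (ha : a ∈ D) (hb : b ∈ D) (hab : a ≠ b) (cab : Commute a b) (C : Subgroup G)
    (hC : C = Subgroup.centralizer ({a * b} : Set G)) [hn : (Cfsg.generalizedFittingSubgroup ↥C).Normal] :
    (∃ (E : Type) (_ : Group E) (_ : Finite E), Cfsg.IsExtraspecial 2 E ∧ Nat.card E = 2 ^ 9 ∧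
      Nonempty (↥(Cfsg.generalizedFittingSubgroup ↥C) ≃* Multiplicative (ZMod 2) × E)) ∧
    Nonempty (↥C ⧸ Cfsg.generalizedFittingSubgroup ↥C ≃*
      Cfsg.isometryGroup (ZMod 2) (Cfsg.quadFormMinus 2 (ZMod 2) 1 1)) := by
  obtain ⟨e, he⟩ := Norm.iso_fi22 hD hprim ht
  have hat : e tA ∈ D := he ▸ ⟨_, Fischer.tA_mem, rfl⟩
  have hbb : e bb ∈ D := he ▸ ⟨_, (Cent.dp 6).2, rfl⟩
  have hne : e tA ≠ e bb := fun h => tA_ne_bb (e.injective h)
  obtain ⟨g, g1, g2⟩ := Transit.conj2 hD hprim ht hat hbb hne (tA_bb.map e) ha hb hab cab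
  set ψ : pres.Grp ≃* G := e.trans (MulAut.conj g)
  have hz : ψ zz = a * b := by
    show g * e (tA * bb) * g⁻¹ = a * b
    rw [← g1, ← g2, map_mul]; group
  have hmap : C2.map ψ.toMonoidHom = C := by
    rw [hC]
    ext y
    rw [Subgroup.mem_map, Subgroup.mem_centralizer_singleton_iff]
    constructor
    · rintro ⟨x, hx, rfl⟩
      show ψ x * (a * b) = a * b * ψ x
      rw [← hz, ← map_mul, ← map_mul, Subgroup.mem_centralizer_singleton_iff.mp hx]
    · intro hy
      refine ⟨ψ.symm y, Subgroup.mem_centralizer_singleton_iff.mpr ?_, ψ.apply_symm_apply y⟩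
      apply ψ.injective
      rw [map_mul ψ (ψ.symm y) zz, map_mul ψ zz (ψ.symm y), ψ.apply_symm_apply, hz]
      exact hy
  let θ : ↥C2 ≃* ↥C := (C2.equivMapOfInjective ψ.toMonoidHom ψ.injective).trans (MulEquiv.subgroupCongr hmap)
  have hbound : Nat.card ↥C2 ≤ 1024 * 51840 := by
    have h := card_cent_le hD hprim ht ha hb hab cab
    rw [← hC, ← Nat.card_congr θ.toEquiv] at h
    exact h
  obtain ⟨⟨E, iE, fE, hE, hcE, ⟨ι⟩⟩, φ, hφ, hker⟩ := main hbound
  have hgf : (Cfsg.generalizedFittingSubgroup ↥C2).map θ.toMonoidHom = Cfsg.generalizedFittingSubgroup ↥C :=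
    gfit_map θ (by rw [gfit_eq hbound, pCore_eq hbound])
  let θ' : ↥(Cfsg.generalizedFittingSubgroup ↥C2) ≃* ↥(Cfsg.generalizedFittingSubgroup ↥C) :=
    ((Cfsg.generalizedFittingSubgroup ↥C2).equivMapOfInjective θ.toMonoidHom θ.injective).trans
      (MulEquiv.subgroupCongr hgf)
  refine ⟨⟨E, iE, fE, hE, hcE, ⟨θ'.symm.trans ι⟩⟩, ?_⟩
  have hk : Cfsg.generalizedFittingSubgroup ↥C = (φ.comp θ.symm.toMonoidHom).ker := by
    rw [← hgf, ← hker, Subgroup.map_equiv_eq_comap_symm', MonoidHom.comap_ker]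
  exact ⟨(QuotientGroup.quotientMulEquivOfEq hk).trans
    (QuotientGroup.quotientKerEquivOfSurjective _ (hφ.comp θ.symm.surjective))⟩

end Cfsg.Agent.Lead.Fi22Two
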