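import Cfsg.Agent.Lib.Lead.Fi22Two.Cent
import Cfsg.Agent.Lib.Classical.KleinHermitian
import Cfsg.Agent.Lib.Classical.OrthPOmega
import Cfsg.Agent.Lib.Spor.SpFourPoints
import Cfsg.Agent.S0815

/-!
The isometry group of a minus form in dimension six over two elements is the automorphism group of the
four-dimensional unitary group over four elements.
-/

set_option autoImplicit false
set_option maxRecDepth 100000

namespace Cfsg.Agent.Lead.Fi22Two

open Cfsg.Agent.Spor.SpFour (F4)

/-- the simple subgroup -/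
abbrev Om : Subgroup O6 := Cfsg.Omega (ZMod 2) qm

theorem aniso : ∀ z₁ z₂ : ZMod 2, z₁ ^ 2 + 1 * z₁ * z₂ + 1 * z₂ ^ 2 = 0 → z₁ = 0 ∧ z₂ = 0 := by decide

theorem card_pomega : Nat.card (Cfsg.POmega (ZMod 2) qm) = 25920 := by
  have h := Classical.OOmega.card_POmega_minus (F := ZMod 2) (m := 3) le_rfl 1 1 aniso
  rw [ZMod.card, show Nat.gcd 4 (2 ^ 3 + 1) = 1 by decide, one_mul] at h
  refine h.trans ?_
  decide

theorem center_om : Subgroup.center ↥Om = ⊥ := by
  haveI : Fact (Nat.Prime 2) := ⟨Nat.prime_two⟩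
  set Z := Subgroup.center ↥Om
  have h1 : Nat.card ↥Om = 25920 * Nat.card ↥Z := by
    rw [Z.card_eq_card_quotient_mul_card_subgroup]
    exact congrArg (fun n => n * Nat.card ↥Z) card_pomega
  have hd : Nat.card ↥Om ∣ 51840 := card_O ▸ Subgroup.card_subgroup_dvd_card Om
  rw [h1, show (51840 : ℕ) = 25920 * 2 from rfl] at hd
  have hd' : Nat.card ↥Z ∣ 2 := Nat.dvd_of_mul_dvd_mul_left (Nat.succ_pos _) hd
  have hc : Nat.card ↥(Z.map Om.subtype) = Nat.card ↥Z := Subgroup.card_map_of_injective Om.subtype_injective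
  haveI : (Z.map Om.subtype).Normal := inferInstance
  have h2 : IsPGroup 2 ↥(Z.map Om.subtype) := by
    obtain ⟨i, -, hi⟩ := (Nat.dvd_prime_pow Nat.prime_two).mp (show Nat.card ↥Z ∣ 2 ^ 1 from hd')
    exact IsPGroup.of_card (n := i) (hc.trans hi)
  have := two_core_trivial _ h2
  exact (Subgroup.map_eq_bot_iff_of_injective _ Om.subtype_injective).mp this

theorem om_equiv : Nonempty (↥Om ≃* Cfsg.PSU 4 F4 2) := by
  obtain ⟨e⟩ := Classical.KleinHerm.pOmega_six_minus (F := ZMod 2) (K := F4) (q := 2) (ZMod.card 2)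
    (by decide) 1 1 aniso
  refine ⟨MulEquiv.trans ?_ e⟩
  exact (QuotientGroup.quotientBot.symm.trans (QuotientGroup.quotientMulEquivOfEq center_om.symm))

theorem card_om : Nat.card ↥Om = 25920 := by
  have h1 : Nat.card ↥Om = Nat.card (↥Om ⧸ Subgroup.center ↥Om) := by
    rw [center_om]; exact Nat.card_congr QuotientGroup.quotientBot.toEquiv.symm
  exact h1.trans card_pomega

theorem cent_om : Subgroup.centralizer (Om : Set O6) = ⊥ := by
  haveI : Fact (Nat.Prime 2) := ⟨Nat.prime_two⟩
  haveI : (Subgroup.centralizer (Om : Set O6)).Normal := inferInstance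
  have hinj : Function.Injective ((QuotientGroup.mk' Om).comp (Subgroup.centralizer (Om : Set O6)).subtype) := by
    refine (injective_iff_map_eq_one _).mpr fun x hx => ?_
    have hm : (x : O6) ∈ Om := (QuotientGroup.eq_one_iff _).mp hx
    have hz : (⟨x, hm⟩ : ↥Om) ∈ Subgroup.center ↥Om := Subgroup.mem_center_iff.mpr fun g =>
      Subtype.ext (Subgroup.mem_centralizer_iff.mp x.2 g g.2)
    rw [center_om, Subgroup.mem_bot] at hz
    exact Subtype.ext (congrArg Subtype.val hz :)
  have h2 : Nat.card (O6 ⧸ Om) = 2 := by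
    have h := Om.card_eq_card_quotient_mul_card_subgroup
    rw [card_O, card_om] at h
    omega
  have h3 := Subgroup.card_dvd_of_injective _ hinj
  rw [h2] at h3
  obtain ⟨i, -, hi⟩ := (Nat.dvd_prime_pow Nat.prime_two).mp (show _ ∣ 2 ^ 1 from h3)
  exact two_core_trivial _ (IsPGroup.of_card (n := i) hi)

theorem o6_aut : Nonempty (O6 ≃* MulAut (Cfsg.PSU 4 F4 2)) := by
  obtain ⟨e⟩ := om_equiv
  let φ : O6 →* MulAut ↥Om := MulAut.conjNormal
  have hφ : Function.Injective φ := by
    refine (injective_iff_map_eq_one _).mpr fun x hx => ?_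
    have : x ∈ Subgroup.centralizer (Om : Set O6) := Subgroup.mem_centralizer_iff.mpr fun g hg => by
      have h := congrArg (fun f : MulAut ↥Om => ((f ⟨g, hg⟩ : ↥Om) : O6)) hx
      simp only [φ, MulAut.one_apply, MulAut.conjNormal_apply] at h
      exact (mul_inv_eq_iff_eq_mul.mp h).symm
    rwa [cent_om, Subgroup.mem_bot] at this
  haveI : Fact (Nat.Prime 2) := ⟨Nat.prime_two⟩
  have hcard : Nat.card (MulAut ↥Om) = 51840 := by
    rw [Nat.card_congr (MulAut.congr e).toEquiv,
      Cfsg.Agent.S0815.result (F := F4) 2 1 le_rfl (q := 2) rfl (by decide) 4 (by norm_num) (by norm_num),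
      ← Nat.card_congr e.toEquiv, card_om]
    rfl
  haveI : Finite (MulAut ↥Om) := Nat.finite_of_card_ne_zero (by rw [hcard]; norm_num)
  exact ⟨(MulEquiv.ofBijective φ (hφ.bijective_of_nat_card_le (by rw [hcard, card_O]))).trans (MulAut.congr e)⟩

end Cfsg.Agent.Lead.Fi22Two
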