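import Cfsg.Agent.Lib.Lead.Fi22Two.AutCent
import Cfsg.Agent.Lib.Lead.Fi22Two.Bound
import Cfsg.Agent.Lib.Lead.Fi22Two.O6Aut
import Cfsg.Agent.Lib.Spor.AffineLarge

/-!
The centraliser of the inner automorphism of a product of two commuting members in the automorphism
group of a group of type M(22).
-/

set_option autoImplicit false
set_option maxRecDepth 100000
set_option linter.unusedSectionVars false

namespace Cfsg.Agent.Lead.Fi22Two.Aut

open Cfsg.Agent.Spor.CC Cfsg.Agent.Spor.Fi22Cert Cfsg.Agent.Spor.Fi22Cert.U62Act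
open Cfsg.Agent.Spor.M22U

theorem large_map {A B : Type*} [Group A] [Group B] [Finite A] [Finite B] (θ : A ≃* B) (Q : Subgroup A)
    (h : Cfsg.IsLargeExtraspecial Q) : Cfsg.IsLargeExtraspecial (Q.map θ.toMonoidHom) := by
  obtain ⟨h1, h2, h3, h4⟩ := h
  set e : ↥Q ≃* ↥(Q.map θ.toMonoidHom) := Q.equivMapOfInjective θ.toMonoidHom θ.injective
  have hc : (Subgroup.center ↥(Q.map θ.toMonoidHom)).map (Q.map θ.toMonoidHom).subtype =
      ((Subgroup.center ↥Q).map Q.subtype).map θ.toMonoidHom := by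
    ext y
    constructor
    · rintro ⟨c, hc, rfl⟩
      refine ⟨(e.symm c : A), ⟨e.symm c, Subgroup.mem_center_iff.mpr fun w => e.injective ?_, rfl⟩, ?_⟩
      · rw [map_mul, map_mul, e.apply_symm_apply, Subgroup.mem_center_iff.mp hc]
      · exact congrArg Subtype.val (e.apply_symm_apply c)
    · rintro ⟨_, ⟨c, hc, rfl⟩, rfl⟩
      exact ⟨e c, Subgroup.mem_center_iff.mpr fun w => e.symm.injective (by
        rw [map_mul, map_mul, e.symm_apply_apply, Subgroup.mem_center_iff.mp hc]), rfl⟩
  have hcent : ∀ H : Subgroup A, (Subgroup.centralizer (H : Set A)).map θ.toMonoidHom =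
      Subgroup.centralizer ((H.map θ.toMonoidHom : Subgroup B) : Set B) := fun H => by
    ext y
    rw [Subgroup.mem_map_equiv, Subgroup.mem_centralizer_iff, Subgroup.mem_centralizer_iff]
    constructor
    · rintro hy _ ⟨x, hx, rfl⟩
      apply θ.symm.injective
      simpa using hy x hx
    · intro hy x hx
      apply θ.injective
      simpa using hy _ ⟨x, hx, rfl⟩
  refine ⟨Spor.AffineLarge.extraspecial_equiv e h1, ?_, ?_, fun K hK hQK => ?_⟩
  · rw [hc, ← hcent, h2]
  · rw [hc, ← hcent]
    rintro y ⟨x, hx, rfl⟩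
    rw [← Subgroup.map_equiv_normalizer_eq Q θ]
    exact ⟨x, h3 hx, rfl⟩
  · have hK' : K.comap θ.toMonoidHom = ⊥ := by
      refine h4 _ ?_ ?_
      · rwa [Subgroup.comap_equiv_eq_map_symm', Subgroup.card_map_of_injective θ.symm.injective]
      · intro q hq
        have := hQK ⟨q, hq, rfl⟩
        rw [Subgroup.mem_normalizer_iff] at this ⊢
        intro x
        simpa using this (θ x)
    rw [eq_bot_iff]
    intro y hy
    have : θ.symm y ∈ K.comap θ.toMonoidHom := by simpa using hy
    rw [hK', Subgroup.mem_bot] at this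
    rw [Subgroup.mem_bot, ← θ.apply_symm_apply y, this, map_one]

universe u
variable {G : Type u} [Group G] [Finite G] {D : Set G}
variable (hD : Cfsg.IsThreeTranspositionGroup D) (hprim : Cfsg.IsPrimitiveUnderConj D)
  (ht : Cfsg.IsOfTypeM22 G D)

include hD hprim ht in
theorem result {a b : G} (ha : a ∈ D) (hb : b ∈ D) (hab : a ≠ b) (cab : Commute a b) (j : MulAut G)
    (hj : j = MulAut.conj (a * b)) (Q : Subgroup (MulAut G))
    (hQ : Q = (Cfsg.generalizedFittingSubgroup ↥(Subgroup.centralizer ({j} : Set (MulAut G)))).map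
      (Subgroup.centralizer ({j} : Set (MulAut G))).subtype) :
    Cfsg.IsLargeExtraspecial Q ∧ Nat.card Q = 2 ^ 11 ∧ Q ≤ Subgroup.centralizer ({j} : Set (MulAut G)) ∧
      ∃ (_ : (Q.subgroupOf (Subgroup.centralizer ({j} : Set (MulAut G)))).Normal) (F : Type) (_ : Field F)
        (_ : Fintype F), Fintype.card F = 4 ∧
        Nonempty (↥(Subgroup.centralizer ({j} : Set (MulAut G))) ⧸
          Q.subgroupOf (Subgroup.centralizer ({j} : Set (MulAut G))) ≃* MulAut (Cfsg.PSU 4 F 2)) := by
  obtain ⟨e, he⟩ := Norm.iso_fi22 hD hprim ht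
  have hat : e tA ∈ D := he ▸ ⟨_, Fischer.tA_mem, rfl⟩
  have hbb : e bb ∈ D := he ▸ ⟨_, (Cent.dp 6).2, rfl⟩
  have hne : e tA ≠ e bb := fun h => tA_ne_bb (e.injective h)
  obtain ⟨g, g1, g2⟩ := Transit.conj2 hD hprim ht hat hbb hne (tA_bb.map e) ha hb hab cab
  set ψ : pres.Grp ≃* G := e.trans (MulAut.conj g)
  have hz : ψ zz = a * b := by
    show g * e (tA * bb) * g⁻¹ = a * b
    rw [← g1, ← g2, map_mul]; group
  have hC : Nat.card ↥C2 ≤ 1024 * 51840 := by
    refine le_trans ?_ (card_cent_le hD hprim ht ha hb hab cab)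
    exact Nat.card_le_card_of_injective
      (fun x : ↥C2 => (⟨ψ x.1, Subgroup.mem_centralizer_singleton_iff.mpr (by
        rw [← hz, ← map_mul ψ x.1 zz, ← map_mul ψ zz x.1, Subgroup.mem_centralizer_singleton_iff.mp x.2])⟩ :
          ↥(Subgroup.centralizer ({a * b} : Set G))))
      fun x y h => Subtype.ext (ψ.injective (congrArg Subtype.val h))
  set θ : MA ≃* MulAut G := MulAut.congr ψ
  have hjj : θ jj = j := by
    rw [hj]
    refine MulEquiv.ext fun x => ?_
    show ψ (zz * ψ.symm x * zz⁻¹) = a * b * x * (a * b)⁻¹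
    rw [map_mul, map_mul, map_inv, ψ.apply_symm_apply, hz]
  haveI : Finite (MulAut G) := Finite.of_injective (fun f : MulAut G => (f : G → G)) DFunLike.coe_injective
  have hmap : CA.map θ.toMonoidHom = Subgroup.centralizer ({j} : Set (MulAut G)) := by
    ext y
    rw [Subgroup.mem_map_equiv, Subgroup.mem_centralizer_singleton_iff, Subgroup.mem_centralizer_singleton_iff]
    constructor
    · intro h
      apply θ.symm.injective
      rw [map_mul, map_mul, show θ.symm j = jj by rw [← hjj, θ.symm_apply_apply]]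
      exact h
    · intro h
      apply θ.injective
      rw [map_mul θ, map_mul θ, θ.apply_symm_apply, hjj]
      exact h
  let θC : ↥CA ≃* ↥(Subgroup.centralizer ({j} : Set (MulAut G))) :=
    (CA.equivMapOfInjective θ.toMonoidHom θ.injective).trans (MulEquiv.subgroupCongr hmap)
  have hgf : (Cfsg.generalizedFittingSubgroup ↥CA).map θC.toMonoidHom =
      Cfsg.generalizedFittingSubgroup ↥(Subgroup.centralizer ({j} : Set (MulAut G))) :=
    gfit_map θC (by rw [gfit_eqA hC, pCore_eqA hC])
  have hQA : Q = QA.map θ.toMonoidHom := by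
    rw [hQ, ← hgf, gfit_eqA hC, Subgroup.map_map]
    rw [show (Subgroup.centralizer ({j} : Set (MulAut G))).subtype.comp θC.toMonoidHom =
      θ.toMonoidHom.comp CA.subtype from MonoidHom.ext fun x => rfl, ← Subgroup.map_map,
      Subgroup.subgroupOf_map_subtype, inf_of_le_left QA_le_CA]
  have hQC : Q ≤ Subgroup.centralizer ({j} : Set (MulAut G)) := by
    rw [hQA, ← hmap]; exact Subgroup.map_mono QA_le_CA
  refine ⟨?_, ?_, hQC, ?_⟩
  · rw [hQA]; exact large_map θ QA (largeA hC)
  · rw [hQA, Subgroup.card_map_of_injective θ.injective, QA_extra.2]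
  obtain ⟨ι⟩ := o6_aut
  set f : ↥(Subgroup.centralizer ({j} : Set (MulAut G))) →* O6 := (phiA hC).comp θC.symm.toMonoidHom
  have hk : Q.subgroupOf (Subgroup.centralizer ({j} : Set (MulAut G))) = f.ker := by
    rw [← MonoidHom.comap_ker, ker_phiA hC, ← Subgroup.map_equiv_eq_comap_symm', ← gfit_eqA hC, hgf, hQ,
      Subgroup.subgroupOf, Subgroup.comap_map_eq_self_of_injective (Subgroup.subtype_injective _)]
  have hn : (Q.subgroupOf (Subgroup.centralizer ({j} : Set (MulAut G)))).Normal := hk ▸ MonoidHom.normal_ker f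
  refine ⟨hn, Cfsg.Agent.Spor.SpFour.F4, inferInstance, inferInstance, by decide, ⟨?_⟩⟩
  exact ((QuotientGroup.quotientMulEquivOfEq hk).trans
    (QuotientGroup.quotientKerEquivOfSurjective f ((phiA_surj hC).comp θC.symm.surjective))).trans ι

end Cfsg.Agent.Lead.Fi22Two.Aut
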