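import Cfsg.Agent.Lib.Lead.Fi22Two.AutGroup
import Cfsg.Agent.Lib.Spor.LargeQuotient

/-!
The centraliser of a product of two commuting members in the automorphism group of Fi22, given an
upper bound on its order in Fi22 itself.
-/

set_option autoImplicit false
set_option maxRecDepth 100000
set_option linter.unusedSectionVars false

namespace Cfsg.Agent.Lead.Fi22Two.Aut

open Cfsg.Agent.Spor.CC Cfsg.Agent.Spor.Fi22Cert Cfsg.Agent.Spor.Fi22Cert.U62Act
open Cfsg.Agent.Spor.M22U Cfsg.Agent.Spor.M22U.Cent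
open Cfsg.Agent.Spor.M22U.FixSearch (ptMap ptMap_lt dp_ptMap dp_inj)

theorem card_CA_le : Nat.card ↥CA ≤ 2 * Nat.card ↥C2 := by
  have hout := Outer.card_out
  let f : ↥CA →* Cfsg.Out pres.Grp := (QuotientGroup.mk' (Cfsg.Inn pres.Grp)).comp CA.subtype
  have hk : Nat.card ↥f.ker ≤ Nat.card ↥C2 := by
    have hmem : ∀ x : ↥f.ker, ∃ g : ↥C2, cj (g : pres.Grp) = ((x : ↥CA) : MA) := by
      intro x
      obtain ⟨g, hg⟩ := (QuotientGroup.eq_one_iff _).mp (MonoidHom.mem_ker.mp x.2)
      refine ⟨⟨g, Subgroup.mem_centralizer_singleton_iff.mpr ?_⟩, hg⟩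
      apply cj_inj
      have h := Subgroup.mem_centralizer_singleton_iff.mp (x : ↥CA).2
      rw [map_mul cj g zz, map_mul cj zz g]
      calc cj g * cj zz = ((x : ↥CA) : MA) * cj zz := congrArg (· * cj zz) hg
        _ = cj zz * ((x : ↥CA) : MA) := h
        _ = cj zz * cj g := congrArg (cj zz * ·) hg.symm
    choose k hk using hmem
    exact Nat.card_le_card_of_injective k fun x y h => Subtype.ext (Subtype.ext (by rw [← hk x, ← hk y, h]))
  haveI : Finite (Cfsg.Out pres.Grp) := Nat.finite_of_card_ne_zero (by rw [hout]; norm_num)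
  have hr : Nat.card ↥f.range ≤ 2 := hout ▸ Subgroup.card_le_card_group _
  rw [← f.ker.card_mul_index, Subgroup.index_ker, mul_comm]
  exact Nat.mul_le_mul hr hk

/-- projection to the centraliser -/
noncomputable def fstA : ↥RA →* ↥CA where
  toFun u := ⟨u.1.1, (RA_spec u.2).1⟩
  map_one' := rfl
  map_mul' _ _ := rfl

theorem fstA_inj : Function.Injective fstA := fun u v h =>
  Subtype.ext (RA_inj u.2 v.2 (congrArg Subtype.val h))

/-- projection to the isometries -/
noncomputable def sndA : ↥RA →* O6 := (MonoidHom.snd MA O6).comp RA.subtype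

theorem sndA_surj : Function.Surjective sndA := fun M => by
  obtain ⟨x, hx⟩ := snd_top M
  exact ⟨⟨(x, M), hx⟩, rfl⟩

/-- the two-part inside the kernel -/
noncomputable def qkerA (x : ↥QA) : ↥sndA.ker := ⟨⟨((x : MA), 1), QA_le x.2⟩, rfl⟩

theorem qkerA_inj : Function.Injective qkerA := fun x y h =>
  Subtype.ext (congrArg (fun u : ↥sndA.ker => u.1.1.1) h)

variable (hC : Nat.card ↥C2 ≤ 1024 * 51840)

include hC in
theorem countsA : Function.Bijective fstA ∧ Function.Bijective qkerA := by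
  have h1 : Nat.card ↥RA ≤ Nat.card ↥CA := Nat.card_le_card_of_injective _ fstA_inj
  have h2 : Nat.card ↥RA = Nat.card ↥sndA.ker * 51840 := by
    rw [← card_O, ← Subgroup.card_top (G := O6), ← MonoidHom.range_eq_top.mpr sndA_surj, ← Subgroup.index_ker,
      Subgroup.card_mul_index]
  have h3 : 2 ^ 11 ≤ Nat.card ↥sndA.ker := QA_extra.2 ▸ Nat.card_le_card_of_injective _ qkerA_inj
  have h4 := card_CA_le
  have hk' : Nat.card ↥sndA.ker ≤ 2 ^ 11 := by omega
  refine ⟨fstA_inj.bijective_of_nat_card_le ?_, qkerA_inj.bijective_of_nat_card_le (by rw [QA_extra.2]; exact hk')⟩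
  omega

/-- the isomorphism with the pairs -/
noncomputable def equivA : ↥RA ≃* ↥CA := MulEquiv.ofBijective fstA (countsA hC).1

/-- the map to the isometries -/
noncomputable def phiA : ↥CA →* O6 := sndA.comp (equivA hC).symm.toMonoidHom

theorem phiA_surj : Function.Surjective (phiA hC) := fun M => by
  obtain ⟨u, rfl⟩ := sndA_surj M
  exact ⟨equivA hC u, by simp [phiA]⟩

theorem rel_phiA (x : ↥CA) : RelA (x : MA) (phiA hC x) := by
  have h := (RA_spec ((equivA hC).symm x).2).2
  have e : (((equivA hC).symm x).1.1 : MA) = x := congrArg Subtype.val ((equivA hC).apply_symm_apply x)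
  rwa [e] at h

theorem ker_phiA : (phiA hC).ker = QA.subgroupOf CA := by
  ext x
  rw [MonoidHom.mem_ker, Subgroup.mem_subgroupOf]
  have e : (((equivA hC).symm x).1.1 : MA) = x := congrArg Subtype.val ((equivA hC).apply_symm_apply x)
  constructor
  · intro h
    obtain ⟨q, hq⟩ := (countsA hC).2.2 ⟨(equivA hC).symm x, h⟩
    have : (q : MA) = x := (congrArg (fun u : ↥sndA.ker => u.1.1.1) hq).trans e
    exact this ▸ q.2
  · intro h
    have : (equivA hC).symm x = ⟨((x : MA), 1), QA_le h⟩ := (equivA hC).injective (by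
      rw [MulEquiv.apply_symm_apply]; rfl)
    simp [phiA, this, sndA]

theorem pattern_fix (f : ℕ → ℕ) (flt : ∀ p, p < 3510 → f p < 3510)
    (finj : ∀ {p q}, p < 3510 → q < 3510 → f p = f q → p = q) (f0 : f 0 = 0) (f6 : f 6 = 6)
    (fadj : ∀ p q, p < 3510 → q < 3510 → adjb (f p) (f q) = adjb p q)
    (fsep : ∀ i < 11, ∀ p < 3510,
      ev RepU62.rows 9 (Dat.seps.getD i []) (f p) = f (ev RepU62.rows 9 (Dat.seps.getD i []) p))
    (c : ℕ) (hc : c < 64) (p : ℕ) (hp : p ∈ pts c) : f p ∈ pts c := by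
  obtain ⟨hp', hcom⟩ := pts_spec hc hp
  obtain ⟨a0, a6, n0, n6, -⟩ := common_adj p hcom
  have hq : f p < 3510 := flt p hp'
  have b0 := fadj 0 p (by norm_num) hp'
  have b6 := fadj 6 p (by norm_num) hp'
  rw [f0, a0] at b0
  rw [f6, a6] at b6
  have hqc : f p ∈ Dat.common := by
    have hc : commonOK (f p) = true := by
      rcases lt_or_ge (f p) 1755 with hk | hk
      · exact range_spec common0 hk
      · have := List.all_eq_true.mp common1 (f p - 1755) (List.mem_range.mpr (by omega))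
        rwa [show Nat.add 1755 (f p - 1755) = f p from Nat.add_sub_cancel' hk] at this
    simp only [commonOK, b0, b6, Bool.and_self, Bool.not_true, Bool.false_or, Bool.or_eq_true] at hc
    rcases hc with (h | h) | h
    · exact absurd (finj hp' (by norm_num) ((Nat.eq_of_beq_eq_true h).trans f0.symm)) n0
    · exact absurd (finj hp' (by norm_num) ((Nat.eq_of_beq_eq_true h).trans f6.symm)) n6
    · exact mem'_iff.mp h
  obtain ⟨k, hk, hkp⟩ := List.getElem_of_mem hcom
  obtain ⟨l, hl, hlq⟩ := List.getElem_of_mem hqc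
  have hk' : k < 180 := misc_ok.1 ▸ hk
  have hl' : l < 180 := misc_ok.1 ▸ hl
  have hkD : Dat.common.getD k 0 = p := by rw [List.getD_eq_getElem _ _ hk, hkp]
  have hlD : Dat.common.getD l 0 = f p := by rw [List.getD_eq_getElem _ _ hl, hlq]
  have hpk := range_spec pats_ok hk'
  have hpl := range_spec pats_ok hl'
  simp only [patOK, List.all_eq_true, List.mem_range, beq_iff_eq, hkD, hlD] at hpk hpl
  have hpat : Dat.pats.getD k 0 = Dat.pats.getD l 0 := by
    refine Nat.eq_of_testBit_eq fun i => ?_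
    rcases lt_or_ge i 11 with hi | hi
    · rw [← hpk i hi, ← hpl i hi, fsep i hi p hp', Bool.eq_iff_iff]
      constructor
      · intro h; rw [Nat.eq_of_beq_eq_true h]; exact Nat.beq_refl _
      · intro h
        rw [finj (by rw [← act_el (seps_ok i hi).2.1 hp']; exact act_lt _ hp') hp' (Nat.eq_of_beq_eq_true h)]
        exact Nat.beq_refl _
    · rw [Nat.testBit_lt_two_pow (lt_of_lt_of_le (pats_lt k hk') (Nat.pow_le_pow_right (by norm_num) hi)),
        Nat.testBit_lt_two_pow (lt_of_lt_of_le (pats_lt l hl') (Nat.pow_le_pow_right (by norm_num) hi))]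
  have hs := range_spec sep_ok hc
  simp only [sepOK2, List.all_eq_true, List.mem_range, Bool.or_eq_true, Bool.not_eq_true'] at hs
  rcases hs k hk' with h | h
  · rw [hkD, mem'_iff.mpr hp] at h; exact Bool.noConfusion h
  · rcases h l hl' with h | h
    · rw [hpat, Nat.beq_refl] at h; exact Bool.noConfusion h
    · rw [hlD] at h; exact mem'_iff.mp h

include hC in
theorem cent_leA (x : ↥CA) (hx : ∀ y ∈ QA, Commute (x : MA) y) : (x : MA) ∈ QA := by
  set ψ : MA := (x : MA)
  have hfix : ∀ {g : pres.Grp}, g ∈ Qs → ψ g = g := fun hg => commute_cj.mp (hx _ (cj_mem_QA hg))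
  have f0 : ptMap ψ 0 = 0 := dp_inj (ptMap_lt _ _) (by norm_num) (by
    rw [dp_ptMap, dp_zero]; exact hfix zz_mem_Qs.1)
  have f6 : ptMap ψ 6 = 6 := dp_inj (ptMap_lt _ _) (by norm_num) (by
    rw [dp_ptMap]; exact hfix zz_mem_Qs.2.1)
  have finj : ∀ {p q : ℕ}, p < 3510 → q < 3510 → ptMap ψ p = ptMap ψ q → p = q := by
    intro p q hp hq h
    refine dp_inj hp hq (ψ.injective ?_)
    rw [← dp_ptMap, ← dp_ptMap, h]
  have fadj : ∀ p q, p < 3510 → q < 3510 → adjb (ptMap ψ p) (ptMap ψ q) = adjb p q := by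
    intro p q hp hq
    rw [Bool.eq_iff_iff, adjb_iff pts_ok (ptMap_lt ψ p) (ptMap_lt ψ q), adjb_iff pts_ok hp hq, dp_ptMap, dp_ptMap]
    exact ⟨fun h => by
      have := h.map ψ.symm.toMonoidHom
      simpa using this, fun h => h.map ψ.toMonoidHom⟩
  have fsep : ∀ i < 11, ∀ p < 3510, ev RepU62.rows 9 (Dat.seps.getD i []) (ptMap ψ p) =
      ptMap ψ (ev RepU62.rows 9 (Dat.seps.getD i []) p) := by
    intro i hi p hp
    have hw := (seps_ok i hi).2.1
    rw [← act_el hw (ptMap_lt ψ p), ← act_el hw hp]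
    refine dp_inj (act_lt _ (ptMap_lt ψ p)) (ptMap_lt _ _) ?_
    rw [act_dp pts_ok _ (ptMap_lt ψ p), dp_ptMap, dp_ptMap, act_dp pts_ok _ hp, map_mul, map_mul, map_inv,
      hfix (seps_mem hi)]
  have hrel : RelA ψ 1 := fun v p hp => by
    rw [mv_one]
    exact pattern_fix (ptMap ψ) (fun q _ => ptMap_lt ψ q) finj f0 f6 fadj fsep _ (enc_lt v) p hp
  have h1 : phiA hC x = 1 := by
    have h := relA_mul (relA_inv hrel) (rel_phiA hC x)
    rw [inv_mul_cancel, inv_one, one_mul] at h
    exact relA_unique h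
  have h2 : x ∈ (phiA hC).ker := h1
  rwa [ker_phiA hC, Subgroup.mem_subgroupOf] at h2

theorem QA_le_CA : QA ≤ CA := fun _ hx => (RA_spec (QA_le hx)).1

include hC in
theorem pCore_eqA : Cfsg.pCore 2 ↥CA = QA.subgroupOf CA := by
  haveI : Fact (Nat.Prime 2) := ⟨Nat.prime_two⟩
  haveI : (QA.subgroupOf CA).Normal := ker_phiA hC ▸ MonoidHom.normal_ker _
  have hq : IsPGroup 2 ↥(QA.subgroupOf CA) :=
    IsPGroup.of_card (n := 11) (by
      rw [Nat.card_congr (Subgroup.subgroupOfEquivOfLe QA_le_CA).toEquiv, QA_extra.2])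
  refine le_antisymm ?_ (Fusion.le_pCore hq)
  rw [← ker_phiA hC]
  refine sSup_le ?_
  rintro N ⟨hN, hNp⟩
  haveI : (N.map (phiA hC)).Normal := hN.map _ (phiA_surj hC)
  exact (Subgroup.map_eq_bot_iff N).mp (two_core_trivial (N.map (phiA hC)) (hNp.map _))

include hC in
theorem gfit_eqA : Cfsg.generalizedFittingSubgroup ↥CA = QA.subgroupOf CA := by
  haveI : Fact (Nat.Prime 2) := ⟨Nat.prime_two⟩
  rw [← pCore_eqA hC, Fusion.gfit_eq_pCore_iff, pCore_eqA hC]
  intro x hx
  rw [Subgroup.mem_subgroupOf]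
  refine cent_leA hC x fun y hy => ?_
  exact (congrArg Subtype.val (Subgroup.mem_centralizer_iff.mp hx ⟨y, QA_le_CA hy⟩
    (Subgroup.mem_subgroupOf.mpr hy))).symm

theorem fW_mem : ∀ i < 10, el (fW i) ∈ Qs := by
  intro i hi
  match i, hi with
  | 0, _ => rw [show fW 0 = [0] from rfl, el_zero]; exact zz_mem_Qs.1
  | 1, _ => rw [show fW 1 = bW from rfl, el_b]; exact zz_mem_Qs.2.1
  | k + 2, hk => exact zz_mem_Qs.2.2 ⟨k, by omega⟩

theorem witR_mem : el witR ∈ Qs := by
  have h : ∀ l : List ℕ, (∀ i ∈ l, i < 10) → el (l.map fW).flatten ∈ Qs := by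
    intro l
    induction l with
    | nil => intro _; rw [List.map_nil, List.flatten_nil, el_nil]; exact one_mem _
    | cons a l ih =>
      intro hl
      rw [List.map_cons, List.flatten_cons, el_append]
      exact mul_mem (fW_mem a (hl a (List.mem_cons_self ..))) (ih fun i hi => hl i (List.mem_cons_of_mem _ hi))
  refine h _ fun i hi => ?_
  exact Nat.le_of_ble_eq_true (List.all_eq_true.mp tau_misc.2.2.2.2.2.2.2.2.1 i hi)

theorem jj_order : orderOf jj = 2 := by
  haveI : Fact (Nat.Prime 2) := ⟨Nat.prime_two⟩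
  exact orderOf_eq_prime (by rw [pow_two, jj_sq]) pairingA.ne

theorem wit : cj (el ADat.witW) * jj * (cj (el ADat.witW))⁻¹ ∈ QA ∧
    cj (el ADat.witW) * jj * (cj (el ADat.witW))⁻¹ ≠ jj := by
  have e : cj (el ADat.witW) * jj * (cj (el ADat.witW))⁻¹ = cj (el witL) := by
    rw [← map_inv, ← map_mul, ← map_mul, witL, el_append, el_append, el_rev, el_z]
  rw [e]
  refine ⟨?_, fun h => ?_⟩
  · have h := triv_spec tau_misc.2.2.2.2.2.2.1
    rw [el_append, el_rev, mul_inv_eq_one] at h
    rw [h]; exact cj_mem_QA witR_mem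
  · have h' : el witL = el zW := (cj_inj h).trans el_z.symm
    obtain ⟨-, -, -, -, -, -, -, hl, -, hne⟩ := tau_misc
    refine hne ?_
    have hzw : ∀ x ∈ zW, x < 9 := by decide +kernel
    rw [← act_el (fun x hx => Nat.le_of_ble_eq_true (List.all_eq_true.mp hl x hx)) (show (1 : ℕ) < 3510 by norm_num),
      ← act_el hzw (show (1 : ℕ) < 3510 by norm_num), h']

include hC in
theorem largeA : Cfsg.IsLargeExtraspecial QA := by
  have hF : (Cfsg.generalizedFittingSubgroup ↥CA).map CA.subtype = QA := by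
    rw [gfit_eqA hC, Subgroup.subgroupOf_map_subtype, inf_of_le_left QA_le_CA]
  obtain ⟨-, -, -, hzp, hcent, hnorm⟩ := Spor.Large.of_gfit jj jj_order QA QA_le_CA hF QA_extra.1
  set g : MA := cj (el ADat.witW)
  have hg : g ∉ Subgroup.normalizer (((Subgroup.center ↥QA).map QA.subtype : Subgroup MA) : Set MA) := by
    intro h
    rw [hzp] at h
    have := (Subgroup.mem_normalizer_iff.mp h jj).mp (Subgroup.mem_zpowers jj)
    obtain ⟨n, hn⟩ := Subgroup.mem_zpowers_iff.mp this
    rcases Int.even_or_odd n with ⟨m, hm⟩ | ⟨m, hm⟩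
    · rw [hm, ← two_mul, zpow_mul, zpow_two, jj_sq, one_zpow] at hn
      exact pairingA.ne (conj_eq_one_iff.mp hn.symm)
    · rw [hm, zpow_add_one, zpow_mul, zpow_two, jj_sq, one_zpow, one_mul] at hn
      exact wit.2 hn.symm
  refine (Spor.Large.conjugate_inside QA QA_extra.1 hcent hnorm 5 (by norm_num) QA_extra.2 g hg ?_ _ rfl).2.2
  rw [hzp, MonoidHom.map_zpowers, Subgroup.zpowers_le]
  exact wit.1

end Cfsg.Agent.Lead.Fi22Two.Aut
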