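import Cfsg.Agent.Lib.Lead.Fi22Two.AutDefs

/-!
The checks for the automorphism of Fi22 centralising a product of two commuting members, evaluated.
-/

set_option autoImplicit false
set_option maxRecDepth 100000
set_option Elab.async false

namespace Cfsg.Agent.Lead.Fi22Two

open Cfsg.Agent.Spor.CC Cfsg.Agent.Spor.Fi22Cert Cfsg.Agent.Spor.Fi22Cert.U62Act
open Cfsg.Agent.Spor.M22U Cfsg.Agent.Spor.M22U.Cent

theorem taurels_ok : rangeOK tauRelOK 0 9 = true := by decide +kernel
theorem tausets_ok : rangeOK tauSetOK 0 64 = true := by decide +kernel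

theorem tau_misc :
    (ADat.tauW.all fun x => Nat.blt x 9) = true ∧ triv (ADat.tauW ++ swl ADat.tauW) = true ∧
      triv (Fischer.tw' (pwP 154) ++ [6]) = true ∧ tauPt 0 = 6 ∧ tauPt 6 = 0 ∧ Outer.sw 0 = 6 ∧
      triv (witL ++ witR.reverse) = true ∧ ((witL.all fun x => Nat.blt x 9) = true) ∧
      (ADat.witC.all fun i => Nat.blt i 10) = true ∧
      ev RepU62.rows 9 witL 1 ≠ ev RepU62.rows 9 zW 1 := by decide +kernel

theorem bmat_ok : ∀ i j : Fin 10, bent2 i.val j.val < 2 ∧ bent2 i.val j.val = bent2 j.val i.val ∧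
    bent2 9 9 = 0 ∧
    ((h : i.val < 9) → (k : j.val < 9) →
      bent2 i.val j.val = if i.val = 0 ∨ j.val = 0 then 0 else bent (i.val - 1) (j.val - 1)) := by
  decide +kernel

end Cfsg.Agent.Lead.Fi22Two
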