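/-!
Data for the outer automorphism of Fi22 normalising the centraliser of a product of two commuting
members, and for a second conjugate of that product in the extraspecial group.
-/

set_option autoImplicit false
set_option maxRecDepth 100000

namespace Cfsg.Agent.Lead.Fi22Two.ADat

/-- the inner factor of the automorphism -/
def tauW : List Nat := [1, 0, 1, 0, 1, 2, 0, 1, 0, 1, 0, 2, 0, 1, 3, 4, 5, 6, 2, 3, 4, 5, 1, 0, 2, 1, 3, 2, 4, 3, 5, 4, 6, 5]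

/-- commutators of the ten generators -/
def bmat : List (List Nat) := [[0, 0, 0, 0, 0, 0, 0, 0, 0, 1], [0, 0, 0, 1, 1, 1, 0, 1, 1, 0], [0, 0, 0, 1, 0, 1, 0, 1, 1, 0], [0, 1, 1, 0, 1, 1, 1, 0, 1, 0], [0, 1, 0, 1, 0, 0, 1, 0, 1, 0], [0, 1, 1, 1, 0, 0, 0, 0, 1, 0], [0, 0, 0, 1, 1, 0, 0, 1, 1, 1], [0, 1, 1, 0, 0, 0, 1, 0, 0, 1], [0, 1, 1, 1, 1, 1, 1, 0, 0, 1], [1, 0, 0, 0, 0, 0, 1, 1, 1, 0]]

/-- its inverse -/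
def binv : List (List Nat) := [[0, 1, 0, 1, 0, 1, 0, 0, 0, 1], [1, 0, 0, 0, 1, 1, 0, 1, 0, 0], [0, 0, 0, 1, 1, 0, 0, 1, 1, 0], [1, 0, 1, 0, 0, 0, 1, 1, 1, 0], [0, 1, 1, 0, 0, 0, 0, 0, 0, 0], [1, 1, 0, 0, 0, 0, 1, 0, 0, 0], [0, 0, 0, 1, 0, 1, 0, 1, 1, 0], [0, 1, 1, 1, 0, 0, 1, 0, 1, 0], [0, 0, 1, 1, 0, 0, 1, 1, 0, 0], [1, 0, 0, 0, 0, 0, 0, 0, 0, 0]]

/-- a conjugator -/
def witW : List Nat := [3, 4, 5, 6, 2, 3, 4, 5, 1, 2, 3, 4, 0, 1, 2, 3]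

/-- the factors of the conjugate -/
def witC : List Nat := [0, 2, 4, 5, 8]

end Cfsg.Agent.Lead.Fi22Two.ADat
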