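import Cfsg.Agent.Lib.Lead.Fi22Two.Cent
import Cfsg.Agent.Lib.Lead.Fi22Two.AutData
import Cfsg.Agent.Lib.Spor.Fi22OutRigidCheck

/-!
Checks for the centraliser of a product of two commuting members in the automorphism group of Fi22.
-/

set_option autoImplicit false
set_option maxRecDepth 100000

namespace Cfsg.Agent.Lead.Fi22Two

open Cfsg.Agent.Spor.CC Cfsg.Agent.Spor.Fi22Cert Cfsg.Agent.Spor.Fi22Cert.U62Act
open Cfsg.Agent.Spor.M22U Cfsg.Agent.Spor.M22U.Cent

/-- the image of a word under the symmetry -/
def swl (w : List ℕ) : List ℕ := w.map Outer.sw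

/-- the image of a point under the symmetry -/
noncomputable def sigPt (p : ℕ) : ℕ := ev RepU62.rows 9 (swl (pwP p)) 154

/-- the image of a point under the automorphism -/
noncomputable def tauPt (p : ℕ) : ℕ := ev RepU62.rows 9 ADat.tauW (sigPt p)

/-- word of one of the nine inner generators -/
def aW : ℕ → List ℕ
  | 0 => [0]
  | i + 1 => qW i

/-- entry of the pairing of ten -/
def bent2 (i j : ℕ) : ℕ := (ADat.bmat.getD i []).getD j 0

/-- the automorphism preserves a set -/
noncomputable def tauSetOK (c : ℕ) : Bool := (pts c).all fun p => mem' (tauPt p) (pts c)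

/-- the automorphism and an inner generator -/
noncomputable def tauRelOK (i : ℕ) : Bool :=
  let w := aW i
  (w.all fun x => Nat.blt x 9) && Nat.blt (bent2 9 i) 2 &&
    triv (ADat.tauW ++ swl w ++ ADat.tauW.reverse ++ w.reverse ++
      bif Nat.beq (bent2 9 i) 1 then zW.reverse else [])

/-- word of a factor of the conjugate -/
def fW : ℕ → List ℕ
  | 0 => [0]
  | 1 => bW
  | i + 2 => qW i

/-- the word of the conjugate -/
def witR : List ℕ := (ADat.witC.map fW).flatten

/-- the word conjugating -/
def witL : List ℕ := ADat.witW ++ zW ++ ADat.witW.reverse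

end Cfsg.Agent.Lead.Fi22Two
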