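import Cfsg.Agent.Lib.Lead.Fi22Two.AutChecks
import Cfsg.Agent.Lib.Spor.M22UFixed
import Cfsg.Agent.Lib.Spor.Fi22OutMain

/-!
The automorphisms of Fi22 centralising a product of two commuting members: action on the twenty-seven
sets and the extraspecial group of order 2^11.
-/

set_option autoImplicit false
set_option maxRecDepth 100000
set_option linter.unusedSectionVars false

namespace Cfsg.Agent.Lead.Fi22Two.Aut

open Cfsg.Agent.Spor.CC Cfsg.Agent.Spor.Fi22Cert Cfsg.Agent.Spor.Fi22Cert.U62Act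
open Cfsg.Agent.Spor.M22U Cfsg.Agent.Spor.M22U.Cent
open Cfsg.Agent.Spor.M22U.FixSearch (ptMap ptMap_lt dp_ptMap dp_inj)

/-- the automorphisms -/
abbrev MA : Type := MulAut pres.Grp

/-- conjugation -/
noncomputable abbrev cj : pres.Grp →* MA := MulAut.conj

theorem cj_inj : Function.Injective cj := by
  refine (injective_iff_map_eq_one _).mpr fun g hg => ?_
  have h : g ∈ Subgroup.center pres.Grp := Subgroup.mem_center_iff.mpr fun x => by
    have e : g * x * g⁻¹ = x := DFunLike.congr_fun hg x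
    exact (mul_inv_eq_iff_eq_mul.mp e).symm
  rwa [Fischer.center_bot, Subgroup.mem_bot] at h

instance finMA : Finite MA := Finite.of_injective (fun f : MA => (f : pres.Grp → pres.Grp)) DFunLike.coe_injective

/-- the inner automorphism of the product -/
noncomputable abbrev jj : MA := cj zz

/-- its centraliser -/
noncomputable abbrev CA : Subgroup MA := Subgroup.centralizer ({jj} : Set MA)

theorem conj_cj (ψ : MA) (g : pres.Grp) : ψ * cj g * ψ⁻¹ = cj (ψ g) := by
  refine MulEquiv.ext fun x => ?_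
  show ψ (g * ψ⁻¹ x * g⁻¹) = ψ g * x * (ψ g)⁻¹
  rw [map_mul, map_mul, map_inv, show ψ (ψ⁻¹ x) = x from ψ.apply_symm_apply x]

theorem commute_cj {ψ : MA} {g : pres.Grp} : Commute ψ (cj g) ↔ ψ g = g := by
  constructor
  · intro h
    apply cj_inj
    rw [← conj_cj, h.eq, mul_inv_cancel_right]
  · intro h
    have e := conj_cj ψ g
    rw [h] at e
    exact mul_inv_eq_iff_eq_mul.mp e

/-- the outer involution -/
noncomputable def tau : MA := cj (el ADat.tauW) * Outer.sigma

theorem tauW_lt : ∀ x ∈ ADat.tauW, x < 9 := fun x hx =>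
  Nat.le_of_ble_eq_true (List.all_eq_true.mp tau_misc.1 x hx)

theorem swl_lt {w : List ℕ} (hw : ∀ x ∈ w, x < 9) : ∀ x ∈ swl w, x < 9 := by
  intro x hx
  obtain ⟨y, hy, rfl⟩ := List.mem_map.mp hx
  exact (Outer.sw_facts.1 y (hw y hy)).1

theorem sigma_el {w : List ℕ} (hw : ∀ x ∈ w, x < 9) : Outer.sigma (el w) = el (swl w) := by
  rw [el, el, map_list_prod, swl, List.map_map, List.map_map]
  exact congrArg List.prod (List.map_congr_left fun x hx => Outer.sigma_gen (hw x hx))

theorem tau_apply (x : pres.Grp) : tau x = el ADat.tauW * Outer.sigma x * (el ADat.tauW)⁻¹ := rfl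

theorem el_nil : el [] = 1 := by simp [el]

theorem tau_el {w : List ℕ} (hw : ∀ x ∈ w, x < 9) :
    tau (el w) = el (ADat.tauW ++ swl w ++ ADat.tauW.reverse) := by
  rw [tau_apply, sigma_el hw, el_append, el_append, el_rev]

theorem tau_sq : tau * tau = 1 := by
  refine MulEquiv.ext fun x => ?_
  show tau (tau x) = x
  rw [tau_apply, tau_apply, map_mul, map_mul, map_inv, sigma_el tauW_lt]
  have e : el ADat.tauW * el (swl ADat.tauW) = 1 := by rw [← el_append]; exact triv_spec tau_misc.2.1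
  rw [eq_inv_of_mul_eq_one_right e, show Outer.sigma (Outer.sigma x) = x from
    DFunLike.congr_fun Outer.sigma_sq x]
  group

theorem dp_el (p : ℕ) : (dp p : pres.Grp) = el (Fischer.tw' (pwP p)) := InvClasses.tw_prod _

theorem gen_six : el [6] = (dp 154 : pres.Grp) := by
  have h := triv_spec tau_misc.2.2.1
  rw [el_append, ← dp_el] at h
  rw [eq_inv_of_mul_eq_one_right h]
  exact Spor.inv_of_order_two (Fischer.three.1.1 _ (dp 154).2)

theorem sigPt_lt {p : ℕ} (hp : p < 3510) : sigPt p < 3510 := by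
  rw [sigPt, ← act_el (swl_lt (pw_lt pts_ok hp)) (by norm_num)]
  exact act_lt _ (by norm_num)

theorem tauPt_lt {p : ℕ} (hp : p < 3510) : tauPt p < 3510 := by
  rw [tauPt, ← act_el tauW_lt (sigPt_lt hp)]
  exact act_lt _ (sigPt_lt hp)

theorem tau_dp {p : ℕ} (hp : p < 3510) : tau (dp p : pres.Grp) = dp (tauPt p) := by
  have hw := pw_lt pts_ok hp
  have h1 : Outer.sigma (dp p : pres.Grp) = (dp (sigPt p) : pres.Grp) := by
    rw [dp_el, Fischer.tw', sigma_el (by
      intro x hx; rcases List.mem_append.mp hx with h | h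
      · exact hw x h
      · rcases List.mem_cons.mp h with rfl | h
        · norm_num
        · exact hw x (List.mem_reverse.mp h)),
      sigPt, ← act_el (swl_lt hw) (show (154 : ℕ) < 3510 by norm_num),
      act_dp pts_ok _ (show (154 : ℕ) < 3510 by norm_num), ← gen_six]
    rw [← el_rev, ← el_append, ← el_append]
    simp only [swl, List.map_append, List.map_cons, List.map_reverse, tau_misc.2.2.2.2.2.1,
      List.append_assoc, List.cons_append, List.nil_append]
  rw [tau_apply, h1, tauPt, ← act_el tauW_lt (sigPt_lt hp), act_dp pts_ok _ (sigPt_lt hp)]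

theorem tau_zz : tau zz = zz := by
  rw [zz, map_mul, ← dp_zero, bb, tau_dp (by norm_num), tau_dp (by norm_num), tau_misc.2.2.2.1,
    tau_misc.2.2.2.2.1, dp_zero]
  exact tA_bb.eq.symm

/-! ### the action on points -/

theorem ptMap_mul (ψ χ : MA) (p : ℕ) : ptMap (ψ * χ) p = ptMap ψ (ptMap χ p) :=
  dp_inj (ptMap_lt _ _) (ptMap_lt _ _) (by rw [dp_ptMap, dp_ptMap, dp_ptMap]; rfl)

theorem ptMap_one {p : ℕ} (hp : p < 3510) : ptMap (1 : MA) p = p :=
  dp_inj (ptMap_lt _ _) hp (by rw [dp_ptMap]; rfl)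

theorem ptMap_cj (g : pres.Grp) {p : ℕ} (hp : p < 3510) : ptMap (cj g) p = act g p :=
  dp_inj (ptMap_lt _ _) (act_lt g hp) (by rw [dp_ptMap, act_dp pts_ok g hp]; rfl)

theorem ptMap_tau {p : ℕ} (hp : p < 3510) : ptMap tau p = tauPt p :=
  dp_inj (ptMap_lt _ _) (tauPt_lt hp) (by rw [dp_ptMap, tau_dp hp])

/-- an automorphism permutes the sets as a matrix -/
def RelA (ψ : MA) (M : O6) : Prop := ∀ v, ∀ p ∈ pts (enc v), ptMap ψ p ∈ pts (enc (mv M v))

theorem relA_mul {x y : MA} {M N : O6} (h : RelA x M) (h' : RelA y N) : RelA (x * y) (M * N) := by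
  intro v p hp
  rw [ptMap_mul, mv_mul]
  exact h _ _ (h' v p hp)

theorem relA_one : RelA 1 1 := fun v p hp => by
  rw [ptMap_one (pts_spec (enc_lt v) hp).1, mv_one]; exact hp

theorem relA_pow {x : MA} {M : O6} (h : RelA x M) : ∀ n, RelA (x ^ n) (M ^ n)
  | 0 => by simpa using relA_one
  | n + 1 => by rw [pow_succ, pow_succ]; exact relA_mul (relA_pow h n) h

theorem relA_inv {x : MA} {M : O6} (h : RelA x M) : RelA x⁻¹ M⁻¹ := by
  have hfin := isOfFinOrder_of_finite (x, M)
  obtain ⟨n, hn⟩ := hfin.mem_powers_iff_mem_zpowers.mpr ((Subgroup.zpowers (x, M)).inv_mem (Subgroup.mem_zpowers _))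
  have hn' : (x, M) ^ n = (x, M)⁻¹ := hn
  have h1 : x ^ n = x⁻¹ := congrArg Prod.fst hn'
  have h2 : M ^ n = M⁻¹ := congrArg Prod.snd hn'
  rw [← h1, ← h2]; exact relA_pow h n

theorem relA_unique {M : O6} (h : RelA 1 M) : M = 1 := rel_unique fun v p hp => by
  have := h v p hp
  rw [ptMap_one (pts_spec (enc_lt v) hp).1] at this
  rwa [act_one (pts_spec (enc_lt v) hp).1]

theorem relA_cj {g : pres.Grp} {M : O6} (h : Rel g M) : RelA (cj g) M := fun v p hp => by
  rw [ptMap_cj g (pts_spec (enc_lt v) hp).1]; exact h v p hp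

theorem relA_tau : RelA tau 1 := fun v p hp => by
  rw [ptMap_tau (pts_spec (enc_lt v) hp).1, mv_one]
  have h := range_spec tausets_ok (enc_lt v)
  simp only [tauSetOK, List.all_eq_true] at h
  exact mem'_iff.mp (h p hp)

/-! ### the pairs -/

/-- compatible pairs -/
noncomputable def RA : Subgroup (MA × O6) :=
  R.map (cj.prodMap (MonoidHom.id O6)) ⊔ Subgroup.zpowers (tau, 1)

theorem tau_mem : (tau, (1 : O6)) ∈ RA := Subgroup.mem_sup_right (Subgroup.mem_zpowers _)

theorem cj_mem {g : pres.Grp} {M : O6} (h : (g, M) ∈ R) : (cj g, M) ∈ RA :=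
  Subgroup.mem_sup_left ⟨(g, M), h, rfl⟩

theorem RA_spec {u : MA × O6} (hu : u ∈ RA) : u.1 ∈ CA ∧ RelA u.1 u.2 := by
  rw [RA, Subgroup.sup_eq_closure] at hu
  refine Subgroup.closure_induction ?_ ⟨one_mem _, relA_one⟩ ?_ ?_ hu
  · rintro u (hu | hu)
    · obtain ⟨⟨g, M⟩, hg, rfl⟩ := hu
      obtain ⟨h1, h2⟩ := R_spec hg
      refine ⟨Subgroup.mem_centralizer_singleton_iff.mpr ?_, relA_cj h2⟩
      show cj g * cj zz = cj zz * cj g
      rw [← map_mul, ← map_mul, Subgroup.mem_centralizer_singleton_iff.mp h1]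
    · have hb : (tau, (1 : O6)) ∈ {u : MA × O6 | u.1 ∈ CA ∧ RelA u.1 u.2} :=
        ⟨Subgroup.mem_centralizer_singleton_iff.mpr (commute_cj.mpr tau_zz), relA_tau⟩
      obtain ⟨n, rfl⟩ := Subgroup.mem_zpowers_iff.mp hu
      have hsq : (tau, (1 : O6)) ^ (2 : ℤ) = 1 := by
        rw [zpow_two]; exact Prod.ext tau_sq (one_mul 1)
      rcases Int.even_or_odd n with ⟨m, hm⟩ | ⟨m, hm⟩
      · rw [hm, ← two_mul, zpow_mul, hsq, one_zpow]; exact ⟨one_mem _, relA_one⟩
      · rw [hm, zpow_add_one, zpow_mul, hsq, one_zpow, one_mul]; exact hb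
  · intro u v _ _ hu hv; exact ⟨mul_mem hu.1 hv.1, relA_mul hu.2 hv.2⟩
  · intro u _ hu; exact ⟨inv_mem hu.1, relA_inv hu.2⟩

theorem RA_inj {u v : MA × O6} (hu : u ∈ RA) (hv : v ∈ RA) (h : u.1 = v.1) : u = v := by
  have h1 := (RA_spec (mul_mem (inv_mem hu) hv)).2
  have e : (u⁻¹ * v).1 = 1 := by simp [h]
  rw [e] at h1
  have := relA_unique h1
  simp only [Prod.snd_mul, Prod.snd_inv] at this
  exact Prod.ext h (inv_mul_eq_one.mp this)

theorem snd_top : ∀ M : O6, ∃ x : MA, (x, M) ∈ RA := fun M => by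
  obtain ⟨⟨g, N⟩, hu, rfl⟩ := (Fi22Two.snd_top.symm ▸ Subgroup.mem_top M :
    M ∈ R.map (MonoidHom.snd pres.Grp O6))
  exact ⟨cj g, cj_mem hu⟩

/-! ### the extraspecial group -/

/-- the inner generators -/
noncomputable def ie (i : Fin 9) : pres.Grp := el (aW i.val)

theorem ie_zero : ie 0 = tA := el_zero

theorem ie_succ (i : Fin 8) : ie i.succ = qe i := rfl

/-- the ten generators -/
noncomputable def ee : Fin 10 → MA := Fin.snoc (fun i => cj (ie i)) tau

/-- the pairing -/
def bq2 (i j : Fin 10) : ZMod 2 := if bent2 i.val j.val = 1 then 1 else 0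

/-- the inverse of the pairing -/
def binvA (i j : Fin 10) : ZMod 2 := if (ADat.binv.getD i.val []).getD j.val 0 = 1 then 1 else 0

theorem binvA_ok : (∀ i k : Fin 10, ∑ j, binvA i j * bq2 j k = if i = k then 1 else 0) ∧
    ∃ i j, bq2 i j ≠ 0 := by decide +kernel

theorem ie_comm (i : Fin 9) : Commute zz (ie i) ∧ ie i * ie i = 1 := by
  refine Fin.cases ?_ (fun k => ?_) i
  · rw [ie_zero]; exact ⟨(Commute.refl tA).mul_left tA_bb.symm, tA_sq⟩
  · rw [ie_succ]; exact ⟨pairing.cen k, (pair_spec k).1⟩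

theorem ie_pair (i j : Fin 9) :
    ie i * ie j * (ie i)⁻¹ = zz ^ (bq2 i.castSucc j.castSucc).val * ie j := by
  have hb := (bmat_ok i.castSucc j.castSucc).2.2.2 i.2 j.2
  simp only [Fin.val_castSucc] at hb
  revert hb
  refine Fin.cases ?_ (fun k => ?_) i <;> refine Fin.cases ?_ (fun l => ?_) j <;> intro hb
  · simp only [Fin.val_zero, true_or, if_true] at hb
    simp [bq2, hb, ie_zero]
  · simp only [Fin.val_zero, Fin.val_succ, true_or, if_true] at hb
    rw [ie_zero, ie_succ, (pair_spec l).2.1.symm.eq, mul_inv_cancel_right]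
    simp [bq2, hb]
  · simp only [Fin.val_zero, Fin.val_succ, or_true, if_true] at hb
    rw [ie_zero, ie_succ, (pair_spec k).2.1.eq, mul_inv_cancel_right]
    simp [bq2, hb]
  · simp only [Fin.val_succ, Nat.succ_ne_zero, or_self, if_false, Nat.add_sub_cancel] at hb
    rw [ie_succ, ie_succ, (pair_spec k).2.2.2 l]
    simp [bq2, bq, hb]

theorem tau_ie (i : Fin 9) : tau (ie i) = zz ^ (bq2 (Fin.last 9) i.castSucc).val * ie i := by
  have h := range_spec taurels_ok i.2
  simp only [tauRelOK, Bool.and_eq_true, List.all_eq_true] at h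
  obtain ⟨⟨hw, hb⟩, ht⟩ := h
  have ht' := triv_spec ht
  have hw' : ∀ x ∈ aW i.val, x < 9 := fun x hx => Nat.le_of_ble_eq_true (hw x hx)
  rw [el_append, el_append, ← tau_el hw', el_rev] at ht'
  by_cases h1 : bent2 9 i.val = 1
  · rw [h1, show Nat.beq 1 1 = true from rfl, cond_true, el_rev, el_z, inv_eq_of_mul_eq_one_left zz_sq] at ht'
    have e := eq_inv_of_mul_eq_one_left ht'
    rw [inv_eq_of_mul_eq_one_left zz_sq, mul_inv_eq_iff_eq_mul] at e
    rw [show bq2 (Fin.last 9) i.castSucc = 1 from if_pos h1, ZMod.val_one, pow_one]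
    exact e
  · have h0 : bent2 9 i.val = 0 := by have := Nat.le_of_ble_eq_true hb; omega
    rw [h0, show Nat.beq 0 1 = false from rfl, cond_false, el_nil, mul_one, mul_inv_eq_one] at ht'
    rw [show bq2 (Fin.last 9) i.castSucc = 0 from if_neg (by rw [Fin.val_last, Fin.val_castSucc, h0]; norm_num),
      ZMod.val_zero, pow_zero, one_mul]
    exact ht'

theorem jj_sq : jj * jj = 1 := by rw [← map_mul, zz_sq, map_one]

theorem jj_tau : Commute jj tau := (commute_cj.mpr tau_zz).symm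

theorem bq2_symm (i j : Fin 10) : bq2 i j = bq2 j i := by
  rw [bq2, bq2, (bmat_ok i j).2.1]

theorem pairingA : Ext.Pairing jj ee bq2 where
  ne h := pairing.ne (cj_inj (h.trans (map_one cj).symm))
  csq := jj_sq
  esq := Fin.lastCases (by rw [ee, Fin.snoc_last]; exact tau_sq)
    (fun k => by rw [ee, Fin.snoc_castSucc, ← map_mul, (ie_comm k).2, map_one])
  cen := Fin.lastCases (by rw [ee, Fin.snoc_last]; exact jj_tau)
    (fun k => by rw [ee, Fin.snoc_castSucc]; exact (ie_comm k).1.map cj)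
  pair := by
    refine Fin.lastCases (Fin.lastCases ?_ fun l => ?_) (fun k => Fin.lastCases ?_ fun l => ?_)
    · rw [show bq2 (Fin.last 9) (Fin.last 9) = 0 from if_neg (by
        rw [Fin.val_last, (bmat_ok 0 0).2.2.1]; norm_num)]
      simp
    · simp only [ee, Fin.snoc_last, Fin.snoc_castSucc]
      rw [conj_cj, tau_ie, map_mul, map_pow]
    · simp only [ee, Fin.snoc_last, Fin.snoc_castSucc]
      have e : tau * cj (ie k) * tau⁻¹ = jj ^ (bq2 k.castSucc (Fin.last 9)).val * cj (ie k) := by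
        rw [conj_cj, tau_ie, map_mul, map_pow, bq2_symm]
      set c := jj ^ (bq2 k.castSucc (Fin.last 9)).val with hc
      set a := cj (ie k) with ha
      have hct : Commute c tau := jj_tau.pow_left _
      have hcc : c * c = 1 := by
        rw [hc, ← pow_add, ← two_mul, pow_mul, pow_two, jj_sq, one_pow]
      have haa : a * a = 1 := by rw [ha, ← map_mul, (ie_comm k).2, map_one]
      have hca : Commute c a := ((ie_comm k).1.map cj).pow_left _
      calc a * tau * a⁻¹ = a * (tau * a * tau⁻¹)⁻¹ * tau := by group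
        _ = a * (a⁻¹ * c⁻¹) * tau := by rw [e, mul_inv_rev]
        _ = c * tau := by rw [mul_inv_cancel_left, inv_eq_of_mul_eq_one_left hcc]
    · simp only [ee, Fin.snoc_castSucc]
      rw [← map_inv, ← map_mul, ← map_mul, ie_pair, map_mul, map_pow]
  nondeg := ⟨binvA, binvA_ok.1⟩

/-- the normal two-subgroup -/
noncomputable abbrev QA : Subgroup MA := Ext.gen jj ee

theorem QA_le {x : MA} (hx : x ∈ QA) : (x, (1 : O6)) ∈ RA := by
  have hq : ∀ {g : pres.Grp}, g ∈ Qs → (cj g, (1 : O6)) ∈ RA := fun hg => cj_mem (Fi22Two.Qs_le hg)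
  set K : Subgroup MA := RA.comap (MonoidHom.inl MA O6)
  have : QA ≤ K := by
    rw [QA, Ext.gen, Subgroup.closure_le]
    rintro y (rfl | ⟨i, rfl⟩)
    · exact hq (mul_mem zz_mem_Qs.1 zz_mem_Qs.2.1)
    · refine Fin.lastCases ?_ (fun k => ?_) i
      · rw [ee, Fin.snoc_last]; exact tau_mem
      · rw [ee, Fin.snoc_castSucc]
        refine hq ?_
        refine Fin.cases ?_ (fun l => ?_) k
        · rw [ie_zero]; exact zz_mem_Qs.1
        · rw [ie_succ]; exact zz_mem_Qs.2.2 l
  exact this hx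

theorem QA_extra : Cfsg.IsExtraspecial 2 ↥QA ∧ Nat.card ↥QA = 2 ^ 11 :=
  ⟨(Ext.main pairingA binvA_ok.2).1, (Ext.main pairingA binvA_ok.2).2.1⟩

theorem tA_mem_QA : cj tA ∈ QA := by
  have := Ext.e_mem (c := jj) (e := ee) (0 : Fin 9).castSucc
  rwa [ee, Fin.snoc_castSucc, ie_zero] at this

theorem cj_mem_QA {g : pres.Grp} (hg : g ∈ Qs) : cj g ∈ QA := by
  obtain ⟨⟨s, y⟩, rfl⟩ := hg
  show cj (tA ^ (Multiplicative.toAdd s).val * (y : pres.Grp)) ∈ QA
  rw [map_mul, map_pow]
  refine mul_mem (pow_mem tA_mem_QA _) ?_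
  have : EX ≤ QA.comap cj := by
    rw [EX, Ext.gen, Subgroup.closure_le]
    rintro z (rfl | ⟨i, rfl⟩)
    · exact Ext.c_mem
    · have := Ext.e_mem (c := jj) (e := ee) i.succ.castSucc
      rwa [ee, Fin.snoc_castSucc, ie_succ] at this
  exact this y.2

end Cfsg.Agent.Lead.Fi22Two.Aut
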