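import Cfsg.Agent.Lib.Lead.Fi22Two.Struct

/-!
The centraliser of a product of two commuting members of Fi22: an extension of the direct product of
a group of order two and an extraspecial group of order 2^9 by the isometries of a minus form.
-/

set_option autoImplicit false
set_option maxRecDepth 100000
set_option linter.unusedSectionVars false

namespace Cfsg.Agent.Lead.Fi22Two

open Cfsg.Agent.Spor.CC Cfsg.Agent.Spor.Fi22Cert Cfsg.Agent.Spor.Fi22Cert.U62Act
open Cfsg.Agent.Spor.M22U Cfsg.Agent.Spor.M22U.Cent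

/-- projection to the centraliser -/
noncomputable def fstR : ↥R →* ↥C2 where
  toFun u := ⟨u.1.1, (R_spec u.2).1⟩
  map_one' := rfl
  map_mul' _ _ := rfl

theorem fstR_inj : Function.Injective fstR := fun u v h =>
  Subtype.ext (R_inj u.2 v.2 (congrArg Subtype.val h))

/-- projection to the isometries -/
noncomputable def sndR : ↥R →* O6 := (MonoidHom.snd pres.Grp O6).comp R.subtype

theorem sndR_surj : Function.Surjective sndR := fun M => by
  obtain ⟨u, hu, rfl⟩ := (snd_top.symm ▸ Subgroup.mem_top M : M ∈ R.map (MonoidHom.snd pres.Grp O6))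
  exact ⟨⟨u, hu⟩, rfl⟩

/-- the two-part inside the kernel -/
noncomputable def qker (x : ↥Qs) : ↥sndR.ker := ⟨⟨((x : pres.Grp), 1), Qs_le x.2⟩, rfl⟩

theorem qker_inj : Function.Injective qker := fun x y h =>
  Subtype.ext (congrArg (fun u : ↥sndR.ker => u.1.1.1) h)

theorem counts (hC : Nat.card ↥C2 ≤ 1024 * 51840) :
    Function.Bijective fstR ∧ Function.Bijective qker := by
  have h1 : Nat.card ↥R ≤ Nat.card ↥C2 := Nat.card_le_card_of_injective _ fstR_inj
  have h2 : Nat.card ↥R = Nat.card ↥sndR.ker * 51840 := by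
    rw [← card_O, ← Subgroup.card_top (G := O6), ← MonoidHom.range_eq_top.mpr sndR_surj, ← Subgroup.index_ker,
      Subgroup.card_mul_index]
  have h3 : 1024 ≤ Nat.card ↥sndR.ker := card_Qs ▸ Nat.card_le_card_of_injective _ qker_inj
  have arith : ∀ k q c : ℕ, 0 < c → k * c ≤ q * c → k ≤ q := fun k q c hc h => Nat.le_of_mul_le_mul_right h hc
  have hk' : Nat.card ↥sndR.ker ≤ 1024 := arith _ 1024 51840 (Nat.succ_pos _) (by
    rw [← h2]; exact h1.trans hC)
  refine ⟨fstR_inj.bijective_of_nat_card_le ?_, qker_inj.bijective_of_nat_card_le (by rw [card_Qs]; exact hk')⟩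
  rw [h2]
  exact hC.trans (Nat.mul_le_mul_right _ h3)

variable (hC : Nat.card ↥C2 ≤ 1024 * 51840)

/-- the isomorphism with the pairs -/
noncomputable def equivR : ↥R ≃* ↥C2 := MulEquiv.ofBijective fstR (counts hC).1

/-- the map to the isometries -/
noncomputable def phi : ↥C2 →* O6 := sndR.comp (equivR hC).symm.toMonoidHom

theorem phi_surj : Function.Surjective (phi hC) := fun M => by
  obtain ⟨u, rfl⟩ := sndR_surj M
  exact ⟨equivR hC u, by simp [phi]⟩

theorem rel_phi (x : ↥C2) : Rel (x : pres.Grp) (phi hC x) := by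
  have h := (R_spec ((equivR hC).symm x).2).2
  have e : (((equivR hC).symm x).1.1 : pres.Grp) = x := congrArg Subtype.val ((equivR hC).apply_symm_apply x)
  rwa [e] at h

theorem ker_phi : (phi hC).ker = Qs.subgroupOf C2 := by
  ext x
  rw [MonoidHom.mem_ker, Subgroup.mem_subgroupOf]
  have e : (((equivR hC).symm x).1.1 : pres.Grp) = x := congrArg Subtype.val ((equivR hC).apply_symm_apply x)
  constructor
  · intro h
    obtain ⟨q, hq⟩ := (counts hC).2.2 ⟨(equivR hC).symm x, h⟩
    have : (q : pres.Grp) = x := (congrArg (fun u : ↥sndR.ker => u.1.1.1) hq).trans e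
    exact this ▸ q.2
  · intro h
    have : (equivR hC).symm x = ⟨((x : pres.Grp), 1), Qs_le h⟩ := (equivR hC).injective (by
      rw [MulEquiv.apply_symm_apply]; rfl)
    simp [phi, this, sndR]

theorem zz_mem_Qs : tA ∈ Qs ∧ bb ∈ Qs ∧ ∀ i, qe i ∈ Qs := by
  have hE : ∀ y ∈ EX, y ∈ Qs := fun y hy => ⟨(1, ⟨y, hy⟩), by
    show tA ^ (Multiplicative.toAdd (1 : Multiplicative (ZMod 2))).val * y = y; simp⟩
  have ha : tA ∈ Qs := ⟨(Multiplicative.ofAdd 1, 1), by
    show tA ^ (1 : ZMod 2).val * ((1 : ↥EX) : pres.Grp) = tA; simp [ZMod.val_one]⟩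
  refine ⟨ha, ?_, fun i => hE _ (Ext.e_mem i)⟩
  have h := mul_mem ha (hE _ (Ext.c_mem (c := zz) (e := qe)))
  rwa [zz, ← mul_assoc, tA_sq, one_mul] at h

theorem common_adj : ∀ p ∈ Dat.common, adjb 0 p = true ∧ adjb 6 p = true ∧ p ≠ 0 ∧ p ≠ 6 ∧ p < 3510 := by
  decide +kernel

theorem seps_ok : ∀ i < 11, Dat.seps.getD i [] = ((Dat.combos.getD i []).map qW).flatten ∧
    (∀ x ∈ Dat.seps.getD i [], x < 9) ∧ ∀ j ∈ Dat.combos.getD i [], j < 8 := by decide +kernel

theorem pats_lt : ∀ k < 180, Dat.pats.getD k 0 < 2 ^ 11 := by decide +kernel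

theorem seps_mem {i : ℕ} (hi : i < 11) : el (Dat.seps.getD i []) ∈ Qs := by
  obtain ⟨h, -, hj⟩ := seps_ok i hi
  rw [h]
  revert hj
  generalize Dat.combos.getD i [] = l
  induction l with
  | nil => intro _; simp [el]
  | cons j l ih =>
    intro hj
    rw [List.map_cons, List.flatten_cons, el_append]
    exact mul_mem (zz_mem_Qs.2.2 ⟨j, hj j (List.mem_cons_self ..)⟩) (ih fun k hk => hj k (List.mem_cons_of_mem _ hk))

theorem act_fix {x : pres.Grp} {q : ℕ} (hq : q < 3510) (h : Commute x (dp q : pres.Grp)) : act x q = q := by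
  have h1 := act_dp pts_ok x hq
  rw [h.eq, mul_inv_cancel_right] at h1
  have h2 := congrArg (fun d : Fischer.Dc => (Fischer.theta d : ℕ)) (Subtype.ext h1 : dp (act x q) = dp q)
  simpa [theta_dp pts_ok (act_lt x hq), theta_dp pts_ok hq] using h2

include hC in
theorem cent_le (x : ↥C2) (hx : ∀ y ∈ Qs, Commute (x : pres.Grp) y) : (x : pres.Grp) ∈ Qs := by
  have h0 : act (x : pres.Grp) 0 = 0 := act_fix (by norm_num) (by rw [dp_zero]; exact hx _ zz_mem_Qs.1)
  have h6 : act (x : pres.Grp) 6 = 6 := act_fix (by norm_num) (hx _ zz_mem_Qs.2.1)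
  have hinj : ∀ {p q : ℕ}, p < 3510 → q < 3510 → act (x : pres.Grp) p = act (x : pres.Grp) q → p = q := by
    intro p q hp hq h
    have := congrArg (act (x : pres.Grp)⁻¹) h
    rwa [← act_mul _ _ hp, ← act_mul _ _ hq, inv_mul_cancel, act_one hp, act_one hq] at this
  have hrel : Rel (x : pres.Grp) 1 := by
    intro v p hp
    rw [mv_one]
    obtain ⟨hp', hcom⟩ := pts_spec (enc_lt v) hp
    obtain ⟨a0, a6, n0, n6, -⟩ := common_adj p hcom
    have hq : act (x : pres.Grp) p < 3510 := act_lt _ hp'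
    have b0 := adjb_act pts_ok (x : pres.Grp) (show (0 : ℕ) < 3510 by norm_num) hp'
    have b6 := adjb_act pts_ok (x : pres.Grp) (show (6 : ℕ) < 3510 by norm_num) hp'
    rw [h0, a0] at b0
    rw [h6, a6] at b6
    have hqc : act (x : pres.Grp) p ∈ Dat.common := by
      have hc : commonOK (act (x : pres.Grp) p) = true := by
        rcases lt_or_ge (act (x : pres.Grp) p) 1755 with hk | hk
        · exact range_spec common0 hk
        · have := List.all_eq_true.mp common1 (act (x : pres.Grp) p - 1755) (List.mem_range.mpr (by omega))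
          rwa [show Nat.add 1755 (act (x : pres.Grp) p - 1755) = act (x : pres.Grp) p from
            Nat.add_sub_cancel' hk] at this
      simp only [commonOK, b0, b6, Bool.and_self, Bool.not_true, Bool.false_or, Bool.or_eq_true] at hc
      rcases hc with (h | h) | h
      · exact absurd (hinj hp' (by norm_num) ((Nat.eq_of_beq_eq_true h).trans h0.symm)) n0
      · exact absurd (hinj hp' (by norm_num) ((Nat.eq_of_beq_eq_true h).trans h6.symm)) n6
      · exact mem'_iff.mp h
    obtain ⟨k, hk, hkp⟩ := List.getElem_of_mem hcom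
    obtain ⟨l, hl, hlq⟩ := List.getElem_of_mem hqc
    have hk' : k < 180 := misc_ok.1 ▸ hk
    have hl' : l < 180 := misc_ok.1 ▸ hl
    have hkD : Dat.common.getD k 0 = p := by rw [List.getD_eq_getElem _ _ hk, hkp]
    have hlD : Dat.common.getD l 0 = act (x : pres.Grp) p := by rw [List.getD_eq_getElem _ _ hl, hlq]
    have hpk := range_spec pats_ok hk'
    have hpl := range_spec pats_ok hl'
    simp only [patOK, List.all_eq_true, List.mem_range, beq_iff_eq, hkD, hlD] at hpk hpl
    have hpat : Dat.pats.getD k 0 = Dat.pats.getD l 0 := by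
      refine Nat.eq_of_testBit_eq fun i => ?_
      rcases lt_or_ge i 11 with hi | hi
      · rw [← hpk i hi, ← hpl i hi]
        have hcm : Commute (el (Dat.seps.getD i [])) (x : pres.Grp) := (hx _ (seps_mem hi)).symm
        have e : ev RepU62.rows 9 (Dat.seps.getD i []) (act (x : pres.Grp) p) =
            act (x : pres.Grp) (ev RepU62.rows 9 (Dat.seps.getD i []) p) := by
          rw [← act_el (seps_ok i hi).2.1 hq, ← act_mul _ _ hp', hcm.eq, act_mul _ _ hp', act_el (seps_ok i hi).2.1 hp']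
        rw [e, Bool.eq_iff_iff]
        constructor
        · intro h; rw [Nat.eq_of_beq_eq_true h]; exact Nat.beq_refl _
        · intro h
          rw [hinj (by rw [← act_el (seps_ok i hi).2.1 hp']; exact act_lt _ hp') hp' (Nat.eq_of_beq_eq_true h)]
          exact Nat.beq_refl _
      · rw [Nat.testBit_lt_two_pow (lt_of_lt_of_le (pats_lt k hk') (Nat.pow_le_pow_right (by norm_num) hi)),
          Nat.testBit_lt_two_pow (lt_of_lt_of_le (pats_lt l hl') (Nat.pow_le_pow_right (by norm_num) hi))]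
    have hs := range_spec sep_ok (enc_lt v)
    simp only [sepOK2, List.all_eq_true, List.mem_range, Bool.or_eq_true, Bool.not_eq_true'] at hs
    rcases hs k hk' with h | h
    · rw [hkD, mem'_iff.mpr hp] at h; exact Bool.noConfusion h
    · rcases h l hl' with h | h
      · rw [hpat, Nat.beq_refl] at h; exact Bool.noConfusion h
      · rw [hlD] at h; exact mem'_iff.mp h
  have h1 : phi hC x = 1 := by
    have h := rel_mul (rel_inv hrel) (rel_phi hC x)
    rw [inv_mul_cancel, inv_one, one_mul] at h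
    exact rel_unique h
  have h2 : x ∈ (phi hC).ker := h1
  rwa [ker_phi hC, Subgroup.mem_subgroupOf] at h2

theorem Qs_le_C2 : Qs ≤ C2 := fun _ hx => (R_spec (Qs_le hx)).1

theorem fixed_sing_trans : ∀ v : I6 → ZMod 2, qm v = 0 → v ≠ 0 →
    ∃ w ∈ (Dat.levels.getD 0 (0, [])).2, appW w (Dat.levels.getD 0 (0, [])).1 = enc v := by decide +kernel

theorem sing_count : Nat.card {v : I6 → ZMod 2 // qm v = 0 ∧ v ≠ 0} = 27 := by
  rw [Nat.card_eq_fintype_card]; decide +kernel

theorem dec_sing : ∀ k < 6, ∀ c ∈ Dat.dec.getD k [], qm (vec c) = 0 ∧ vec c ≠ 0 := by decide +kernel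

theorem first_level : (∀ w ∈ (Dat.levels.getD 0 (0, [])).2, ∀ k ∈ w, k < 16) ∧
    (Dat.levels.getD 0 (0, [])).1 < 64 := by decide +kernel

/-- the singular vectors -/
abbrev Sg : Type := {v : I6 → ZMod 2 // qm v = 0 ∧ v ≠ 0}

/-- the action on singular vectors -/
@[reducible] def sgAction : MulAction O6 Sg where
  smul M v := ⟨mv M v.1, (M.2 v.1 v.1).trans v.2.1, fun h => v.2.2 (by
    have h' := congrArg (mv M⁻¹) h
    rw [← mv_mul, inv_mul_cancel, mv_one] at h'
    rw [h']; simp [mv])⟩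
  one_smul v := Subtype.ext (mv_one v.1)
  mul_smul M N v := Subtype.ext (mv_mul M N v.1)

theorem two_core_trivial (N : Subgroup O6) [hN : N.Normal] (h2 : IsPGroup 2 ↥N) : N = ⊥ := by
  letI := sgAction
  haveI : Fact (Nat.Prime 2) := ⟨Nat.prime_two⟩
  have hmod := h2.card_modEq_card_fixedPoints (α := Sg)
  have hne : Nonempty (MulAction.fixedPoints (↥N) Sg) := by
    by_contra hh
    rw [not_nonempty_iff] at hh
    rw [Nat.card_of_isEmpty (α := MulAction.fixedPoints (↥N) Sg),
      show Nat.card Sg = 27 from sing_count] at hmod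
    exact absurd hmod (by decide)
  obtain ⟨⟨w, hw⟩⟩ := hne
  have reach : ∀ u : Sg, ∃ M : O6, mv M (vec (Dat.levels.getD 0 (0, [])).1) = u.1 := by
    intro u
    obtain ⟨l, hl, hlu⟩ := fixed_sing_trans u.1 u.2.1 u.2.2
    refine ⟨wm l, ?_⟩
    rw [← vec_enc (mv (wm l) _), enc_wm (first_level.1 l hl), enc_vec _ first_level.2, hlu, vec_enc]
  have hall : ∀ u : Sg, ∀ n ∈ N, mv n u.1 = u.1 := by
    intro u n hn
    obtain ⟨M1, h1⟩ := reach w
    obtain ⟨M2, h2⟩ := reach u
    have hu : mv (M2 * M1⁻¹) w.1 = u.1 := by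
      rw [mv_mul, ← h1, ← mv_mul M1⁻¹, inv_mul_cancel, mv_one, h2]
    have hfix : mv ((M2 * M1⁻¹)⁻¹ * n * (M2 * M1⁻¹)) w.1 = w.1 := by
      have := congrArg Subtype.val (hw ⟨_, by simpa using hN.conj_mem n hn (M2 * M1⁻¹)⁻¹⟩)
      exact this
    have := congrArg (mv (M2 * M1⁻¹)) hfix
    rw [← mv_mul, show (M2 * M1⁻¹) * ((M2 * M1⁻¹)⁻¹ * n * (M2 * M1⁻¹)) = n * (M2 * M1⁻¹) by group, mv_mul, hu] at this
    exact this
  rw [eq_bot_iff]
  intro n hn
  rw [Subgroup.mem_bot]
  refine rel_unique (fun v p hp => ?_)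
  have hv : v ∈ {v | mv n v = v} := by
    have hpos : ∀ i : I6, pos i < 6 := by decide
    have hsingle : ∀ i : I6, mv n (Pi.single i 1) = Pi.single i 1 := by
      intro i
      rw [single_sum i]
      have hd := dec_sing _ (hpos i)
      revert hd
      generalize Dat.dec.getD (pos i) [] = l
      induction l with
      | nil => intro _; simp [mv]
      | cons c l ih =>
        intro hd
        rw [List.map_cons, List.sum_cons]
        show ((n.1 : Matrix I6 I6 (ZMod 2))).mulVec _ = _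
        rw [Matrix.mulVec_add]
        exact congrArg₂ (· + ·) (hall ⟨vec c, hd c (List.mem_cons_self ..)⟩ n hn)
          (ih fun d h => hd d (List.mem_cons_of_mem _ h))
    have : n = 1 := mv_ext fun u => by
      rw [mv_one]
      have hm : (n.1 : Matrix I6 I6 (ZMod 2)) = 1 := Matrix.ext_of_mulVec_single fun i => by
        rw [Matrix.one_mulVec]; exact hsingle i
      simp [mv, hm]
    show mv n v = v
    rw [this, mv_one]
  rw [show mv n v = v from hv, act_one (pts_spec (enc_lt v) hp).1]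
  exact hp

include hC in
theorem pCore_eq : Cfsg.pCore 2 ↥C2 = Qs.subgroupOf C2 := by
  haveI : Fact (Nat.Prime 2) := ⟨Nat.prime_two⟩
  haveI : (Qs.subgroupOf C2).Normal := ker_phi hC ▸ MonoidHom.normal_ker _
  have hq : IsPGroup 2 ↥(Qs.subgroupOf C2) :=
    IsPGroup.of_card (n := 10) (by rw [Nat.card_congr (Subgroup.subgroupOfEquivOfLe Qs_le_C2).toEquiv, card_Qs]; norm_num)
  refine le_antisymm ?_ (Fusion.le_pCore hq)
  rw [← ker_phi hC]
  refine sSup_le ?_
  rintro N ⟨hN, hNp⟩
  haveI : (N.map (phi hC)).Normal := hN.map _ (phi_surj hC)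
  exact (Subgroup.map_eq_bot_iff N).mp (two_core_trivial (N.map (phi hC)) (hNp.map _))

include hC in
theorem gfit_eq : Cfsg.generalizedFittingSubgroup ↥C2 = Qs.subgroupOf C2 := by
  haveI : Fact (Nat.Prime 2) := ⟨Nat.prime_two⟩
  rw [← pCore_eq hC, Fusion.gfit_eq_pCore_iff, pCore_eq hC]
  intro x hx
  rw [Subgroup.mem_subgroupOf]
  refine cent_le hC x fun y hy => ?_
  exact (congrArg Subtype.val (Subgroup.mem_centralizer_iff.mp hx ⟨y, Qs_le_C2 hy⟩
    (Subgroup.mem_subgroupOf.mpr hy))).symm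

include hC in
theorem main :
    (∃ (E : Type) (_ : Group E) (_ : Finite E), Cfsg.IsExtraspecial 2 E ∧ Nat.card E = 2 ^ 9 ∧
      Nonempty (↥(Cfsg.generalizedFittingSubgroup ↥C2) ≃* Multiplicative (ZMod 2) × E)) ∧
    ∃ φ : ↥C2 →* O6, Function.Surjective φ ∧ φ.ker = Cfsg.generalizedFittingSubgroup ↥C2 := by
  refine ⟨⟨↥EX, inferInstance, inferInstance, (Ext.main pairing binv_ok.2).1, (Ext.main pairing binv_ok.2).2.1,
    ⟨?_⟩⟩, phi hC, phi_surj hC, by rw [gfit_eq hC, ker_phi hC]⟩
  exact (MulEquiv.subgroupCongr (gfit_eq hC)).trans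
    ((Subgroup.subgroupOfEquivOfLe Qs_le_C2).trans (MonoidHom.ofInjective qmap_inj).symm)

end Cfsg.Agent.Lead.Fi22Two
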