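import Cfsg.Agent.Lib.Lead.Fi22Two.Defs

/-!
The checks for the centraliser of a product of two commuting members of Fi22, evaluated.
-/

set_option autoImplicit false
set_option maxRecDepth 100000
set_option Elab.async false

namespace Cfsg.Agent.Lead.Fi22Two

open Cfsg.Agent.Spor.CC Cfsg.Agent.Spor.M22U.Cent

theorem gens0 : rangeOK genOK2 0 8 = true := by decide +kernel
theorem gens1 : rangeOK genOK2 8 8 = true := by decide +kernel
theorem lines_ok : rangeOK linesOK 0 64 = true := by decide +kernel
theorem common0 : rangeOK commonOK 0 1755 = true := by decide +kernel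
theorem common1 : rangeOK commonOK 1755 1755 = true := by decide +kernel
theorem pats_ok : rangeOK patOK 0 180 = true := by decide +kernel
theorem sep_ok : rangeOK sepOK2 0 64 = true := by decide +kernel
theorem pairs_ok : rangeOK pairOK 0 8 = true := by decide +kernel
theorem chain_ok : chainOK2 [] Dat.levels = true := by decide +kernel

theorem misc_ok :
    Dat.common.length = 180 ∧ Dat.gens.length = 16 ∧ (Dat.levels.map fun e => e.2.length).prod = 51840 ∧
      Cfsg.Agent.Spor.M22U.Cent.pwP 0 = [] ∧ ([0] :: bW :: Dat.qws).length = 10 ∧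
      (Dat.gens.drop 6).map Prod.fst = [0] :: bW :: Dat.qws ∧
      ((Dat.gens.drop 6).all fun e => decide (e.2 = [1, 2, 4, 8, 16, 32])) = true := by decide +kernel

end Cfsg.Agent.Lead.Fi22Two
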