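import Cfsg.Agent.Lib.Spor.Fi22SixLift
import Cfsg.Agent.Lib.Spor.M22UInvClasses
import Cfsg.Agent.Lib.Spor.M22UNorm
import Cfsg.Agent.Lib.Fischer.Transitive
import Cfsg.Agent.Lib.Solv.Cores

/-!
Involutions of a quotient of type M(22) lift to involutions of a perfect central double cover.
-/

set_option autoImplicit false

namespace Cfsg.Agent.Lead.Fi22Two.CoverLift

open Cfsg.Agent.Spor.CC Cfsg.Agent.Spor.Fi22Cert Cfsg.Agent.Spor.Fi22Cert.U62Act

universe u

variable {Q : Type u} [Group Q] [Finite Q]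

theorem pCore_central (p : ℕ) [Fact p.Prime] [IsSimpleGroup Q] :
    Cfsg.pCore p Q ≤ Subgroup.center Q := by
  haveI := Solv.pCore_normal (G := Q) p
  rcases (inferInstance : (Cfsg.pCore p Q).Normal).eq_bot_or_eq_top with h | h
  · rw [h]; exact bot_le
  · haveI : Group.IsNilpotent Q := by
      have hp : IsPGroup p Q := by
        have := Solv.pCore_isPGroup (G := Q) p
        rw [h] at this
        exact this.of_equiv Subgroup.topEquiv
      exact hp.isNilpotent
    have hcomm := IsSimpleGroup.comm_iff_isSolvable.mpr (inferInstance : Group.IsSolvable Q)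
    intro x _
    exact Subgroup.mem_center_iff.mpr fun g => hcomm g x

variable {C : Type u} [Group C] [Finite C] (f : C →* Q)

theorem lift_involution (hf : Function.Surjective f) (hk : f.ker ≤ Subgroup.center C)
    (hperf : commutator C = ⊤) [IsSimpleGroup Q] {E : Set Q} (hE : Cfsg.IsThreeTranspositionClass E)
    (h22 : Cfsg.IsOfTypeM22 Q E) {x : Q} (hx : orderOf x = 2) :
    ∃ y : C, f y = x ∧ y * y = 1 := by
  have hD2 : ∃ a ∈ E, ∃ b ∈ E, a ≠ b := by
    obtain ⟨-, d, hd, c, hc, hdc, -⟩ := h22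
    exact ⟨d, hd, c, hc, fun h => hdc (h ▸ Commute.refl d)⟩
  have hQ : commutator Q = ⊤ := by
    rw [commutator_def, ← Subgroup.map_top_of_surjective f hf, ← Subgroup.map_commutator, ← commutator_def, hperf]
  haveI : Fact (Nat.Prime 3) := ⟨Nat.prime_three⟩
  have hprim : Cfsg.IsPrimitiveUnderConj E :=
    (Fischer.primitive hE hD2 (pCore_central 2) (pCore_central 3) (by rw [hQ, ← commutator_def, hQ])).1
  have hD := Spor.class_isGroup hE
  obtain ⟨e, he⟩ := Spor.M22U.Norm.iso_fi22 hD hprim h22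
  let σ : Shrink.{0} C ≃* C := Shrink.mulEquiv
  haveI : Finite (Shrink.{0} C) := Finite.of_equiv C (equivShrink.{0} C)
  let π : Shrink.{0} C →* pres.Grp := (e.symm.toMonoidHom.comp f).comp σ.toMonoidHom
  have hπ : ∀ γ, π γ = e.symm (f (σ γ)) := fun _ => rfl
  have hstem : Cfsg.IsStemExtension π := by
    refine ⟨(e.symm.surjective.comp hf).comp σ.surjective, fun γ hγ => ?_, fun γ _ => ?_⟩
    · rw [MonoidHom.mem_ker, hπ, EmbeddingLike.map_eq_one_iff] at hγ
      refine Subgroup.mem_center_iff.mpr fun g => σ.injective ?_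
      rw [map_mul, map_mul]
      exact Subgroup.mem_center_iff.mp (hk hγ) (σ g)
    · have h := Subgroup.map_top_of_surjective σ.symm.toMonoidHom σ.symm.surjective
      have h2 : commutator (Shrink.{0} C) = ⊤ := by
        rw [commutator_def, ← h, ← Subgroup.map_commutator, ← commutator_def, hperf]
      rw [h2]; exact Subgroup.mem_top γ
  obtain ⟨t, ht, ht2⟩ := SixLift.exists_involution_lift hstem
  obtain ⟨l, ⟨-, hmem, hcom⟩, -, -, hl⟩ := Spor.M22U.InvClasses.exists_good hD hprim h22 hx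
  have hlift : ∀ a ∈ l, ∃ γ : Shrink.{0} C, π γ * tA * (π γ)⁻¹ = e.symm a := by
    intro a ha
    obtain ⟨a', ha', rfl⟩ : a ∈ e '' Spor.M22U.Fischer.Dc := he ▸ hmem a ha
    obtain ⟨c, hc⟩ := isConj_iff.mp ha'
    obtain ⟨γ, rfl⟩ := hstem.1 c
    exact ⟨γ, by rw [MulEquiv.symm_apply_apply]; exact hc⟩
  choose γ hγ using hlift
  let L : {a // a ∈ l} → Shrink.{0} C := fun a => γ a.1 a.2 * t * (γ a.1 a.2)⁻¹
  have hπL : ∀ a, π (L a) = e.symm a.1 := fun a => by
    simp only [L, map_mul, map_inv, ht]; exact hγ a.1 a.2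
  have hsq : ∀ a, L a * L a = 1 := fun a => by
    calc L a * L a = γ a.1 a.2 * (t * t) * (γ a.1 a.2)⁻¹ := by simp only [L]; group
      _ = 1 := by rw [ht2]; group
  have hcomm : ∀ a b, L a * L b = L b * L a := fun a b => by
    have key : (L a * γ b.1 b.2) * t * (L a * γ b.1 b.2)⁻¹ = L b := by
      refine SixLift.conj_lift hstem ht ?_
      have hab : Commute (e.symm a.1) (e.symm b.1) := (hcom a.1 a.2 b.1 b.2).map e.symm.toMonoidHom
      rw [map_mul, hπL, hγ b.1 b.2]
      calc e.symm a.1 * π (γ b.1 b.2) * tA * (e.symm a.1 * π (γ b.1 b.2))⁻¹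
          = e.symm a.1 * (π (γ b.1 b.2) * tA * (π (γ b.1 b.2))⁻¹) * (e.symm a.1)⁻¹ := by group
        _ = e.symm b.1 := by rw [hγ b.1 b.2, hab.eq]; group
    calc L a * L b = (L a * γ b.1 b.2) * t * (L a * γ b.1 b.2)⁻¹ * L a := by simp only [L]; group
      _ = L b * L a := by rw [key]
  refine ⟨σ ((l.attach.map L).prod), ?_, ?_⟩
  · have h1 : π ((l.attach.map L).prod) = e.symm x := by
      rw [map_list_prod, List.map_map, ← hl, map_list_prod]
      conv_rhs => rw [← List.attach_map_subtype_val l, List.map_map]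
      exact congrArg List.prod (List.map_congr_left fun a _ => hπL a)
    rw [hπ] at h1
    exact e.symm.injective h1
  · have h1 := SixLift.sq_prod (z := (1 : Shrink.{0} C)) (fun g => by simp) (l.attach.map L) (fun a ha => by
      obtain ⟨b, -, rfl⟩ := List.mem_map.mp ha; exact hsq b) (fun a ha b hb => by
      obtain ⟨a', -, rfl⟩ := List.mem_map.mp ha
      obtain ⟨b', -, rfl⟩ := List.mem_map.mp hb
      exact hcomm a' b')
    rw [← map_mul, h1, one_pow, map_one]

end Cfsg.Agent.Lead.Fi22Two.CoverLift
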