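import Cfsg.Agent.Lib.Lead.Fi22Two.Data
import Cfsg.Agent.Lib.Spor.M22UCent

/-!
Checks for the centraliser of a product of two commuting members of the class of Fi22.
-/

set_option autoImplicit false
set_option maxRecDepth 100000

namespace Cfsg.Agent.Lead.Fi22Two

open Cfsg.Agent.Spor.CC Cfsg.Agent.Spor.Fi22Cert Cfsg.Agent.Spor.Fi22Cert.U62Act
open Cfsg.Agent.Spor.M22U Cfsg.Agent.Spor.M22U.Cent

/-- the six coordinates -/
abbrev I6 : Type := (Fin 2 ⊕ Fin 2) ⊕ Fin 2

/-- the form -/
abbrev qm : (I6 → ZMod 2) → ZMod 2 := Cfsg.quadFormMinus 2 (ZMod 2) 1 1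

/-- position of a coordinate -/
def pos : I6 → ℕ
  | .inl (.inl i) => i.val
  | .inl (.inr i) => 2 + i.val
  | .inr i => 4 + i.val

/-- vector of a code -/
def vec (c : ℕ) : I6 → ZMod 2 := fun i => bif Nat.testBit c (pos i) then 1 else 0

/-- code of a vector -/
def enc (v : I6 → ZMod 2) : ℕ :=
  (v (.inl (.inl 0))).val + 2 * (v (.inl (.inl 1))).val + 4 * (v (.inl (.inr 0))).val +
    8 * (v (.inl (.inr 1))).val + 16 * (v (.inr 0)).val + 32 * (v (.inr 1)).val

/-- matrix from the codes of the columns -/
def mat (cols : List ℕ) : Matrix I6 I6 (ZMod 2) := Matrix.of fun i j => vec (cols.getD (pos j) 0) i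

/-- image of a code -/
def app (cols : List ℕ) (c : ℕ) : ℕ :=
  (List.range 6).foldl (fun r k => bif Nat.testBit c k then Nat.xor r (cols.getD k 0) else r) 0

/-- word of the second member -/
def bW : List ℕ := Fischer.tw' (pwP 6)

/-- word of the product -/
def zW : List ℕ := 0 :: bW

/-- the members of a code -/
def pts (c : ℕ) : List ℕ := (Dat.lines.find? fun e => Nat.beq e.1 c).elim [] Prod.snd

/-- a point in a list -/
def mem' (p : ℕ) (l : List ℕ) : Bool := l.any fun x => Nat.beq x p

/-- base points -/
def base : List ℕ := RepU62.levels.map Orb.b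

/-- a word gives the identity -/
noncomputable def triv (w : List ℕ) : Bool :=
  (w.all fun x => Nat.blt x 9) && fixOK RepU62.rows 9 [w] base

/-- a generator permutes the sets as its matrix -/
noncomputable def genOK2 (k : ℕ) : Bool :=
  let w := (Dat.gens.getD k ([], [])).1
  let m := (Dat.gens.getD k ([], [])).2
  (w.all fun x => Nat.blt x 9) && triv (w ++ zW ++ w.reverse ++ zW.reverse) &&
    ((List.range 64).all fun c => (pts c).all fun p => mem' (ev RepU62.rows 9 w p) (pts (app m c)))

/-- the members are in range and the sets differ -/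
def linesOK (c : ℕ) : Bool :=
  (pts c).all (fun p => Nat.blt p 3510 && mem' p Dat.common) &&
    (List.range 64).all fun d => (pts c).isEmpty || Nat.beq c d || (pts c).any fun p => !(mem' p (pts d))

/-- the common neighbours are all -/
noncomputable def commonOK (p : ℕ) : Bool :=
  !(adjb 0 p && adjb 6 p) || Nat.beq p 0 || Nat.beq p 6 || mem' p Dat.common

/-- the patterns -/
noncomputable def patOK (k : ℕ) : Bool :=
  (List.range 11).all fun i =>
    Nat.beq (ev RepU62.rows 9 (Dat.seps.getD i []) (Dat.common.getD k 0)) (Dat.common.getD k 0) ==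
      Nat.testBit (Dat.pats.getD k 0) i

/-- equal patterns lie in the same sets -/
def sepOK2 (c : ℕ) : Bool :=
  (List.range 180).all fun k => !(mem' (Dat.common.getD k 0) (pts c)) ||
    (List.range 180).all fun l => !(Nat.beq (Dat.pats.getD k 0) (Dat.pats.getD l 0)) ||
      mem' (Dat.common.getD l 0) (pts c)

/-- word of one of the eight -/
def qW (i : ℕ) : List ℕ := Dat.qws.getD i []

/-- entry of the pairing -/
def bent (i j : ℕ) : ℕ := (Dat.bmat.getD i []).getD j 0

/-- the relations of the eight -/
noncomputable def pairOK (i : ℕ) : Bool :=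
  triv (qW i ++ qW i) && triv (qW i ++ [0] ++ (qW i).reverse ++ [0]) &&
    triv (qW i ++ bW ++ (qW i).reverse ++ bW.reverse) &&
    (List.range 8).all fun j => Nat.blt (bent i j) 2 &&
      triv (qW i ++ qW j ++ (qW i).reverse ++ (qW j).reverse ++ bif Nat.beq (bent i j) 1 then zW.reverse else [])

/-- image of a code under a product of generators -/
def appW (w : List ℕ) (c : ℕ) : ℕ := w.foldr (fun k d => app (Dat.gens.getD k ([], [])).2 d) c

/-- a level of the chain -/
def levelOK (done : List ℕ) (v : ℕ) (ws : List (List ℕ)) : Bool :=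
  (ws.all fun w => (w.all fun k => Nat.blt k 16) && done.all fun d => Nat.beq (appW w d) d) &&
    decide ((ws.map fun w => appW w v).Nodup) && Nat.blt v 64

/-- the levels -/
def chainOK2 : List ℕ → List (ℕ × List (List ℕ)) → Bool
  | _, [] => true
  | done, (v, ws) :: rest => levelOK done v ws && chainOK2 (v :: done) rest

end Cfsg.Agent.Lead.Fi22Two
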