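import Mathlib
import Cfsg.Agent.Lib.Solv.Extraspecial

/-!
A group generated by a central involution and involutions whose commutators lie in it and form a
nondegenerate pairing is extraspecial.
-/

set_option autoImplicit false

namespace Cfsg.Agent.Lead.Fi22Two.Ext

universe u
variable {G : Type u} [Group G] {n : ℕ}

/-- the hypotheses -/
structure Pairing (c : G) (e : Fin n → G) (B : Fin n → Fin n → ZMod 2) : Prop where
  ne : c ≠ 1
  csq : c * c = 1
  esq : ∀ i, e i * e i = 1
  cen : ∀ i, Commute c (e i)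
  pair : ∀ i j, e i * e j * (e i)⁻¹ = c ^ (B i j).val * e j
  nondeg : ∃ A : Fin n → Fin n → ZMod 2, ∀ i k, ∑ j, A i j * B j k = if i = k then 1 else 0

variable {c : G} {e : Fin n → G} {B : Fin n → Fin n → ZMod 2} (P : Pairing c e B)

/-- the subgroup generated -/
def gen (c : G) (e : Fin n → G) : Subgroup G := Subgroup.closure (insert c (Set.range e))

theorem c_mem : c ∈ gen c e := Subgroup.subset_closure (Set.mem_insert _ _)

theorem e_mem (i : Fin n) : e i ∈ gen c e :=
  Subgroup.subset_closure (Set.mem_insert_of_mem _ (Set.mem_range_self i))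

include P in
theorem comm_c {x : G} (hx : x ∈ gen c e) : Commute x c := by
  have h : gen c e ≤ Subgroup.centralizer ({c} : Set G) := by
    rw [gen, Subgroup.closure_le]
    rintro y (rfl | ⟨i, rfl⟩)
    · exact Subgroup.mem_centralizer_singleton_iff.mpr rfl
    · exact Subgroup.mem_centralizer_singleton_iff.mpr (P.cen i).symm.eq
  exact Subgroup.mem_centralizer_singleton_iff.mp (h hx)

include P in
theorem pow_c (s t : ZMod 2) : c ^ s.val * c ^ t.val = c ^ (s + t).val := by
  have key : ∀ k : ℕ, c ^ k = c ^ (k % 2) := fun k => by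
    conv_lhs => rw [← Nat.mod_add_div k 2, pow_add, pow_mul, pow_two, P.csq, one_pow, mul_one]
  rw [← pow_add, key, ZMod.val_add]

include P in
theorem exists_chi {x : G} (hx : x ∈ gen c e) :
    ∀ j, ∃ s : ZMod 2, x * e j * x⁻¹ = c ^ s.val * e j := by
  refine Subgroup.closure_induction ?_ ?_ ?_ ?_ hx
  · rintro y (rfl | ⟨i, rfl⟩) j
    · exact ⟨0, by rw [(P.cen j).eq]; simp⟩
    · exact ⟨B i j, P.pair i j⟩
  · exact fun j => ⟨0, by simp⟩
  · intro x y hxm _ ihx ihy j
    obtain ⟨t, ht⟩ := ihy j
    obtain ⟨s, hs⟩ := ihx j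
    refine ⟨t + s, ?_⟩
    calc x * y * e j * (x * y)⁻¹ = x * (y * e j * y⁻¹) * x⁻¹ := by group
      _ = x * c ^ t.val * e j * x⁻¹ := by rw [ht]; group
      _ = c ^ t.val * (x * e j * x⁻¹) := by rw [((comm_c P hxm).pow_right _).eq]; group
      _ = _ := by rw [hs, ← mul_assoc, pow_c P]
  · intro x hxm ih j
    obtain ⟨s, hs⟩ := ih j
    refine ⟨s, ?_⟩
    have h1 : x⁻¹ * (c ^ s.val * e j) * x = e j := by rw [← hs]; group
    have h2 : Commute x⁻¹ (c ^ s.val) := ((comm_c P hxm).inv_left).pow_right _
    have h3 : c ^ s.val * (x⁻¹ * e j * x) = e j := by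
      rw [← mul_assoc, ← mul_assoc, ← h2.eq, mul_assoc x⁻¹]
      exact h1
    have h4 : c ^ s.val * c ^ s.val = 1 := by
      rw [pow_c P, show s + s = 0 from by fin_cases s <;> decide]; simp
    rw [inv_inv]
    calc x⁻¹ * e j * x = c ^ s.val * c ^ s.val * (x⁻¹ * e j * x) := by rw [h4, one_mul]
      _ = _ := by rw [mul_assoc (c ^ s.val), h3]

/-- the pairing with the generators -/
noncomputable def chi {x : G} (hx : x ∈ gen c e) (j : Fin n) : ZMod 2 := (exists_chi P hx j).choose

include P in
theorem c_inj {s t : ZMod 2} (h : c ^ s.val = c ^ t.val) : s = t := by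
  fin_cases s <;> fin_cases t <;> first
    | rfl
    | (exfalso; simp [ZMod.val] at h; exact P.ne (by first | exact h | exact h.symm))

theorem chi_spec {x : G} (hx : x ∈ gen c e) (j : Fin n) {s : ZMod 2}
    (h : x * e j * x⁻¹ = c ^ s.val * e j) : chi P hx j = s :=
  c_inj P (mul_right_cancel ((exists_chi P hx j).choose_spec.symm.trans h))

/-- the pairing as a homomorphism -/
noncomputable def chiHom : ↥(gen c e) →* Multiplicative (Fin n → ZMod 2) where
  toFun x := Multiplicative.ofAdd (chi P x.2)
  map_one' := congrArg Multiplicative.ofAdd (funext fun j => chi_spec P (one_mem _) j (by simp))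
  map_mul' x y := congrArg Multiplicative.ofAdd (funext fun j => chi_spec P (mul_mem x.2 y.2) j (by
    have h1 := (exists_chi P y.2 j).choose_spec
    have h2 := (exists_chi P x.2 j).choose_spec
    show (x : G) * y * e j * ((x : G) * y)⁻¹ = _
    calc (x : G) * y * e j * ((x : G) * y)⁻¹ = x * (y * e j * (y : G)⁻¹) * (x : G)⁻¹ := by group
      _ = x * (c ^ (chi P y.2 j).val * e j) * (x : G)⁻¹ :=
        congrArg (fun t => (x : G) * t * (x : G)⁻¹) h1
      _ = x * c ^ (chi P y.2 j).val * e j * (x : G)⁻¹ := by group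
      _ = c ^ (chi P y.2 j).val * (x * e j * (x : G)⁻¹) := by rw [((comm_c P x.2).pow_right _).eq]; group
      _ = c ^ (chi P y.2 j).val * (c ^ (chi P x.2 j).val * e j) := by rw [show (x : G) * e j * (x : G)⁻¹ = _ from h2]; rfl
      _ = _ := by rw [← mul_assoc, pow_c P, add_comm]; rfl))

theorem chiHom_e (i : Fin n) : chiHom P ⟨e i, e_mem i⟩ = Multiplicative.ofAdd (B i) :=
  congrArg Multiplicative.ofAdd (funext fun j => chi_spec P (e_mem i) j (P.pair i j))

theorem chiHom_surj : Function.Surjective (chiHom P) := by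
  classical
  obtain ⟨A, hA⟩ := P.nondeg
  intro v
  set w : Fin n → ZMod 2 := fun i => ∑ k, Multiplicative.toAdd v k * A k i with hw
  suffices h : Multiplicative.ofAdd (∑ i, w i • B i) ∈ (chiHom P).range by
    obtain ⟨x, hx⟩ := h
    refine ⟨x, hx.trans ?_⟩
    apply Multiplicative.toAdd.injective
    funext k
    simp only [toAdd_ofAdd, Finset.sum_apply, Pi.smul_apply, smul_eq_mul, hw, Finset.sum_mul]
    rw [Finset.sum_comm]
    simp only [mul_assoc, ← Finset.mul_sum, hA, mul_ite, mul_one, mul_zero, Finset.sum_ite_eq',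
      Finset.mem_univ, if_true]
  rw [ofAdd_sum]
  refine prod_mem fun i _ => ?_
  have h01 : ∀ s : ZMod 2, s = 0 ∨ s = 1 := fun s => by fin_cases s; exacts [Or.inl rfl, Or.inr rfl]
  rcases h01 (w i) with h | h <;> rw [h]
  · simp
  · rw [one_smul]; exact ⟨_, chiHom_e P i⟩

include P in
theorem card_le : Nat.card ↥(gen c e) ≤ 2 ^ (n + 1) ∧ Finite ↥(gen c e) := by
  classical
  set K : ℕ → Set G := fun m =>
    {x | ∃ (s : ZMod 2) (l : List (Fin n)), l.Pairwise (· < ·) ∧ (∀ i ∈ l, (i : ℕ) < m) ∧ x = c ^ s.val * (l.map e).prod}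
  -- every element is a product in a fixed order
  have hins : ∀ (l : List (Fin n)) (i : Fin n), l.Pairwise (· < ·) →
      ∃ (s : ZMod 2) (l' : List (Fin n)), l'.Pairwise (· < ·) ∧
        (∀ j ∈ l', j = i ∨ j ∈ l) ∧ e i * (l.map e).prod = c ^ s.val * (l'.map e).prod := by
    intro l i hl
    induction l with
    | nil => exact ⟨0, [i], List.pairwise_singleton _ _, by simp, by simp⟩
    | cons a l ih =>
      rw [List.pairwise_cons] at hl
      rcases lt_trichotomy i a with h | h | h
      · refine ⟨0, i :: a :: l, List.pairwise_cons.mpr ⟨?_, List.pairwise_cons.mpr hl⟩, by simp, by simp⟩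
        intro j hj
        rcases List.mem_cons.mp hj with rfl | hj
        · exact h
        · exact h.trans (hl.1 j hj)
      · subst h
        exact ⟨0, l, hl.2, fun j hj => Or.inr (List.mem_cons_of_mem _ hj), by
          simp [← mul_assoc, P.esq]⟩
      · obtain ⟨s, l', hl', hmem, heq⟩ := ih hl.2
        refine ⟨B i a + s, a :: l', List.pairwise_cons.mpr ⟨fun j hj => ?_, hl'⟩, fun j hj => ?_, ?_⟩
        · rcases hmem j hj with rfl | hj'
          · exact h
          · exact hl.1 j hj'
        · rcases List.mem_cons.mp hj with rfl | hj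
          · exact Or.inr (List.mem_cons_self ..)
          · exact (hmem j hj).imp id (List.mem_cons_of_mem _)
        · have hh : e i * e a = c ^ (B i a).val * e a * e i := by rw [← P.pair]; group
          simp only [List.map_cons, List.prod_cons]
          rw [← mul_assoc, hh, mul_assoc, heq, mul_assoc, ← mul_assoc (e a), ← ((P.cen a).pow_left s.val).eq,
            mul_assoc (c ^ s.val), ← mul_assoc, pow_c P]
  have hcl : (gen c e : Set G) ⊆ K n := by
    intro x hx
    refine Subgroup.closure_induction_left ?_ ?_ ?_ hx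
    · exact ⟨0, [], List.Pairwise.nil, by simp, by simp⟩
    · rintro y (rfl | ⟨i, rfl⟩) z - ⟨s, l, hl, hm, rfl⟩
      · refine ⟨1 + s, l, hl, hm, ?_⟩
        rw [← mul_assoc, ← pow_c P]
        simp [ZMod.val_one]
      · obtain ⟨t, l', hl', -, heq⟩ := hins l i hl
        refine ⟨s + t, l', hl', fun j _ => j.2, ?_⟩
        rw [← mul_assoc, ← ((P.cen i).pow_left s.val).eq, mul_assoc, heq, ← mul_assoc, pow_c P]
    · rintro y (rfl | ⟨i, rfl⟩) z - ⟨s, l, hl, hm, rfl⟩
      · refine ⟨1 + s, l, hl, hm, ?_⟩
        rw [inv_eq_of_mul_eq_one_left P.csq, ← mul_assoc, ← pow_c P]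
        simp [ZMod.val_one]
      · obtain ⟨t, l', hl', -, heq⟩ := hins l i hl
        refine ⟨s + t, l', hl', fun j _ => j.2, ?_⟩
        rw [inv_eq_of_mul_eq_one_left (P.esq i), ← mul_assoc, ← ((P.cen i).pow_left s.val).eq, mul_assoc, heq,
          ← mul_assoc, pow_c P]
  let f : ZMod 2 × Finset (Fin n) → G := fun q => c ^ q.1.val * ((q.2.sort (· ≤ ·)).map e).prod
  have hK : K n ⊆ Set.range f := by
    rintro x ⟨s, l, hl, -, rfl⟩
    refine ⟨(s, l.toFinset), ?_⟩
    have : l.toFinset.sort (· ≤ ·) = l := (List.toFinset_sort _ (hl.imp ne_of_lt)).mpr (hl.imp le_of_lt)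
    simp [f, this]
  have hfin : (gen c e : Set G).Finite := (Set.finite_range f).subset (hcl.trans hK)
  refine ⟨?_, hfin.to_subtype⟩
  calc Nat.card ↥(gen c e) = (gen c e : Set G).ncard := Nat.card_coe_set_eq _
    _ ≤ (Set.range f).ncard := Set.ncard_le_ncard (hcl.trans hK) (Set.finite_range f)
    _ ≤ Nat.card (ZMod 2 × Finset (Fin n)) := by
      rw [← Nat.card_coe_set_eq]; exact Finite.card_range_le f
    _ = _ := by simp [Nat.card_eq_fintype_card, pow_succ']

include P in
theorem main (hn : ∃ i j, B i j ≠ 0) :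
    Cfsg.IsExtraspecial 2 ↥(gen c e) ∧ Nat.card ↥(gen c e) = 2 ^ (n + 1) ∧
      ∀ x, x ∈ gen c e → (∀ y ∈ gen c e, Commute x y) → x = 1 ∨ x = c := by
  classical
  haveI := (card_le P).2
  set cc : ↥(gen c e) := ⟨c, c_mem⟩
  have hcord : orderOf cc = 2 := by
    refine orderOf_eq_prime (Subtype.ext (by simpa [pow_two] using P.csq)) fun h => P.ne ?_
    exact congrArg Subtype.val h
  have hle : Subgroup.zpowers cc ≤ (chiHom P).ker := by
    rw [Subgroup.zpowers_le, MonoidHom.mem_ker]
    exact congrArg Multiplicative.ofAdd (funext fun j => chi_spec P c_mem j (by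
      rw [(P.cen j).eq]; simp))
  have hidx : (chiHom P).ker.index = 2 ^ n := by
    rw [Subgroup.index_ker, MonoidHom.range_eq_top.mpr (chiHom_surj P), Subgroup.card_top]
    simp [Nat.card_eq_fintype_card]
  have hmul : Nat.card ↥(gen c e) = Nat.card ↥(chiHom P).ker * 2 ^ n := by
    rw [← hidx, Subgroup.card_mul_index]
  have hz : Nat.card ↥(Subgroup.zpowers cc) = 2 := by rw [Nat.card_zpowers, hcord]
  have hge : 2 ≤ Nat.card ↥(chiHom P).ker := by
    exact hz.symm.trans_le (Subgroup.card_le_of_le hle)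
  have hcard : Nat.card ↥(gen c e) = 2 ^ (n + 1) := by
    refine le_antisymm (card_le P).1 ?_
    rw [hmul, pow_succ']
    exact Nat.mul_le_mul_right _ hge
  have hker : (chiHom P).ker = Subgroup.zpowers cc := by
    refine (Subgroup.eq_of_le_of_card_ge hle ?_).symm
    rw [hz]
    have := hmul.symm.trans hcard
    rw [pow_succ'] at this
    exact (Nat.eq_of_mul_eq_mul_right (by positivity) this).le
  have hcen : Subgroup.center ↥(gen c e) = Subgroup.zpowers cc := by
    refine le_antisymm ?_ ?_
    · intro x hx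
      rw [← hker, MonoidHom.mem_ker]
      exact congrArg Multiplicative.ofAdd (funext fun j => chi_spec P x.2 j (by
        have h := congrArg Subtype.val (Subgroup.mem_center_iff.mp hx ⟨e j, e_mem j⟩)
        change e j * (x : G) = (x : G) * e j at h
        rw [← h]; simp))
    · rw [Subgroup.zpowers_le, Subgroup.mem_center_iff]
      exact fun g => Subtype.ext (comm_c P g.2).eq
  have hp : IsPGroup 2 ↥(gen c e) := IsPGroup.of_card hcard
  haveI hnorm : (Subgroup.zpowers cc).Normal := hcen ▸ inferInstance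
  have hkn : ∀ x y : ↥(gen c e), (chiHom P) (x * y * x⁻¹ * y⁻¹) = 1 := fun x y => by simp [map_mul, map_inv]
  have hd : commutator ↥(gen c e) = Subgroup.center ↥(gen c e) := by
    refine le_antisymm ?_ ?_
    · rw [hcen, ← hker, commutator_def, Subgroup.commutator_le]
      intro x _ y _
      exact hkn x y
    · obtain ⟨i, j, hij⟩ := hn
      rw [hcen, Subgroup.zpowers_le]
      have h1 : B i j = 1 := by
        have h01 : ∀ s : ZMod 2, s ≠ 0 → s = 1 := by
          intro s; fin_cases s
          · exact fun h => absurd rfl h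
          · exact fun _ => rfl
        exact h01 _ hij
      have h2 := P.pair i j
      rw [h1, ZMod.val_one, pow_one] at h2
      have h3 := Subgroup.commutator_mem_commutator (Subgroup.mem_top (⟨e i, e_mem i⟩ : ↥(gen c e)))
        (Subgroup.mem_top (⟨e j, e_mem j⟩ : ↥(gen c e)))
      rw [← commutator_def] at h3
      convert h3
      refine Subtype.ext ?_
      simp only [commutatorElement_def, Subgroup.coe_mul, InvMemClass.coe_inv]
      rw [h2]; simp [cc]
  refine ⟨Solv.isExtraspecial_of hp (by rw [hcen, hz]) hd fun x => ?_, hcard, fun x hx hall => ?_⟩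
  · rw [hcen, ← hker, MonoidHom.mem_ker, map_pow]
    apply Multiplicative.toAdd.injective
    funext j
    simp only [toAdd_pow, toAdd_one, Pi.smul_apply, Pi.zero_apply]
    generalize Multiplicative.toAdd ((chiHom P) x) j = s
    rw [two_nsmul]
    exact CharTwo.add_self_eq_zero s
  · have : (⟨x, hx⟩ : ↥(gen c e)) ∈ Subgroup.center ↥(gen c e) :=
      Subgroup.mem_center_iff.mpr fun g => Subtype.ext (hall g g.2).eq.symm
    rw [hcen, mem_zpowers_iff_mem_range_orderOf, hcord] at this
    obtain ⟨k, hk, hk'⟩ := Finset.mem_image.mp this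
    rw [Finset.mem_range] at hk
    interval_cases k
    · left; simpa using (congrArg Subtype.val hk').symm
    · right; simpa using (congrArg Subtype.val hk').symm

end Cfsg.Agent.Lead.Fi22Two.Ext
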