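import Cfsg.Agent.Lib.Lead.Fi22Two.Checks
import Cfsg.Agent.Lib.Lead.Fi22Two.Ext
import Cfsg.Agent.Lib.Spor.M22UInvClasses
import Cfsg.Agent.Lib.Classical.OrthClosed

/-!
The action of the centraliser of a product of two commuting members of Fi22 on twenty-seven sets of
members, as isometries of a minus form in dimension six.
-/

set_option autoImplicit false
set_option maxRecDepth 100000
set_option linter.unusedSectionVars false

namespace Cfsg.Agent.Lead.Fi22Two

open Cfsg.Agent.Spor.CC Cfsg.Agent.Spor.Fi22Cert Cfsg.Agent.Spor.Fi22Cert.U62Act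
open Cfsg.Agent.Spor.M22U Cfsg.Agent.Spor.M22U.Cent

instance finGrp : Finite pres.Grp := order.1

/-- the second member -/
noncomputable abbrev bb : pres.Grp := (dp 6 : pres.Grp)

/-- the product -/
noncomputable abbrev zz : pres.Grp := tA * bb

/-- the centraliser -/
noncomputable abbrev C2 : Subgroup pres.Grp := Subgroup.centralizer ({zz} : Set pres.Grp)

theorem el_append (u v : List ℕ) : el (u ++ v) = el u * el v := by simp [el]

theorem el_rev (u : List ℕ) : el u.reverse = (el u)⁻¹ := (prod_rev u).symm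

theorem el_zero : el [0] = tA := by simp [el]

theorem el_b : el bW = bb := (InvClasses.tw_prod _).symm

theorem el_z : el zW = zz := by
  rw [show zW = [0] ++ bW from rfl, el_append, el_zero, el_b]

theorem triv_spec {w : List ℕ} (h : triv w = true) : el w = 1 := by
  simp only [triv, Bool.and_eq_true, List.all_eq_true] at h
  exact eq_one_of_fix rep.valid pres.gen rep.hom rep.hom_gen RepU62.chain_ok
    (by rw [order.2.1, RepU62.chain_size]) (fun x hx => Nat.le_of_ble_eq_true (h.1 x hx)) h.2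

theorem dp_zero : (dp 0 : pres.Grp) = tA := by rw [dp, misc_ok.2.2.2.1, Fischer.mem_nil]

theorem mem'_iff {p : ℕ} {l : List ℕ} : mem' p l = true ↔ p ∈ l := by
  simp only [mem', List.any_eq_true]
  exact ⟨fun ⟨x, hx, h⟩ => Nat.eq_of_beq_eq_true h ▸ hx, fun h => ⟨p, h, Nat.beq_refl _⟩⟩

theorem range_spec {f : ℕ → Bool} {n : ℕ} (h : rangeOK f 0 n = true) {k : ℕ} (hk : k < n) : f k = true := by
  have := List.all_eq_true.mp h k (List.mem_range.mpr hk)
  simpa using this

/-! ### vectors, codes and matrices -/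

theorem enc_lt : ∀ v : I6 → ZMod 2, enc v < 64 := by decide +kernel

theorem vec_enc : ∀ v : I6 → ZMod 2, vec (enc v) = v := by decide +kernel

theorem enc_vec : ∀ c < 64, enc (vec c) = c := by decide +kernel

theorem gen_mat : ∀ k < 16,
    mat (Dat.gens.getD k ([], [])).2 * mat (Dat.gens.getD k ([], [])).2 = 1 ∧
    ∀ v : I6 → ZMod 2, qm ((mat (Dat.gens.getD k ([], [])).2).mulVec v) = qm v ∧
      enc ((mat (Dat.gens.getD k ([], [])).2).mulVec v) = app (Dat.gens.getD k ([], [])).2 (enc v) := by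
  decide +kernel

/-- the isometries -/
abbrev O6 : Type := ↥(Cfsg.isometryGroup (ZMod 2) qm)

theorem card_O : Nat.card O6 = 51840 := by
  rw [show Nat.card O6 = Nat.card ↥(Cfsg.isometryGroup (ZMod 2) (Cfsg.quadFormMinus 2 (ZMod 2) 1 1)) from rfl,
    Classical.OCount.card_GO_minus 2 1 1 (by decide)]
  decide

/-- word of a generator -/
def gwd (k : ℕ) : List ℕ := (Dat.gens.getD k ([], [])).1

/-- the matrix of a generator -/
noncomputable def gunit (k : Fin 16) : (Matrix I6 I6 (ZMod 2))ˣ :=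
  ⟨mat (Dat.gens.getD k.val ([], [])).2, mat (Dat.gens.getD k.val ([], [])).2, (gen_mat k.val k.2).1,
    (gen_mat k.val k.2).1⟩

theorem gunit_mem (k : Fin 16) : gunit k ∈ Cfsg.isometryGroup (ZMod 2) qm :=
  fun u _ => ((gen_mat k.val k.2).2 u).1

/-- the isometry of a generator -/
noncomputable def giso (k : Fin 16) : O6 := ⟨gunit k, gunit_mem k⟩

/-- action on vectors -/
def mv (M : O6) (v : I6 → ZMod 2) : I6 → ZMod 2 := ((M.1 : Matrix I6 I6 (ZMod 2))).mulVec v

theorem mv_mul (M N : O6) (v : I6 → ZMod 2) : mv (M * N) v = mv M (mv N v) := by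
  simp [mv, Matrix.mulVec_mulVec]

theorem mv_one (v : I6 → ZMod 2) : mv 1 v = v := by simp [mv]

theorem mv_ext {M N : O6} (h : ∀ v, mv M v = mv N v) : M = N :=
  Subtype.ext (Units.ext (Matrix.ext_of_mulVec_single fun i => h (Pi.single i 1)))

theorem enc_giso (k : Fin 16) (v : I6 → ZMod 2) :
    enc (mv (giso k) v) = app (Dat.gens.getD k.val ([], [])).2 (enc v) := ((gen_mat k.val k.2).2 v).2

/-! ### the relation -/

/-- an element permutes the sets as a matrix -/
def Rel (x : pres.Grp) (M : O6) : Prop :=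
  ∀ v, ∀ p ∈ pts (enc v), act x p ∈ pts (enc (mv M v))

theorem pts_spec {c p : ℕ} (hc : c < 64) (hp : p ∈ pts c) : p < 3510 ∧ p ∈ Dat.common := by
  have h := range_spec lines_ok hc
  simp only [linesOK, Bool.and_eq_true, List.all_eq_true] at h
  exact ⟨Nat.le_of_ble_eq_true (h.1 p hp).1, mem'_iff.mp (h.1 p hp).2⟩

/-- the subgroup of compatible pairs -/
noncomputable def gp (k : Fin 16) : pres.Grp × O6 := (el (gwd k.val), giso k)

/-- the subgroup of compatible pairs -/
noncomputable def R : Subgroup (pres.Grp × O6) := Subgroup.closure (Set.range gp)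

theorem gen_spec (k : Fin 16) : (∀ x ∈ gwd k.val, x < 9) ∧ el (gwd k.val) ∈ C2 ∧ Rel (el (gwd k.val)) (giso k) := by
  have h : genOK2 k.val = true := by
    rcases lt_or_ge k.val 8 with hk | hk
    · exact range_spec gens0 hk
    · have := List.all_eq_true.mp gens1 (k.val - 8) (List.mem_range.mpr (by omega))
      rwa [show Nat.add 8 (k.val - 8) = k.val from Nat.add_sub_cancel' hk] at this
  simp only [genOK2, Bool.and_eq_true, List.all_eq_true] at h
  obtain ⟨⟨hw, hc⟩, hr⟩ := h
  have hw' : ∀ x ∈ gwd k.val, x < 9 := fun x hx => Nat.le_of_ble_eq_true (hw x hx)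
  refine ⟨hw', ?_, fun v p hp => ?_⟩
  · have h1 := triv_spec hc
    rw [el_append, el_append, el_append, el_rev, el_rev, el_z, mul_inv_eq_one, mul_inv_eq_iff_eq_mul] at h1
    exact Subgroup.mem_centralizer_singleton_iff.mpr h1
  · rw [act_el hw' (pts_spec (enc_lt v) hp).1, enc_giso k v]
    exact mem'_iff.mp (hr (enc v) (List.mem_range.mpr (enc_lt v)) p hp)

theorem rel_mul {x y : pres.Grp} {M N : O6} (h : Rel x M) (h' : Rel y N) : Rel (x * y) (M * N) := by
  intro v p hp
  rw [act_mul _ _ (pts_spec (enc_lt v) hp).1, mv_mul]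
  exact h _ _ (h' v p hp)

theorem rel_one : Rel 1 1 := fun v p hp => by
  rw [act_one (pts_spec (enc_lt v) hp).1, mv_one]; exact hp

theorem rel_pow {x : pres.Grp} {M : O6} (h : Rel x M) : ∀ n, Rel (x ^ n) (M ^ n)
  | 0 => by simpa using rel_one
  | n + 1 => by rw [pow_succ, pow_succ]; exact rel_mul (rel_pow h n) h

theorem rel_inv {x : pres.Grp} {M : O6} (h : Rel x M) : Rel x⁻¹ M⁻¹ := by
  have hfin := isOfFinOrder_of_finite (x, M)
  obtain ⟨n, hn⟩ := hfin.mem_powers_iff_mem_zpowers.mpr ((Subgroup.zpowers (x, M)).inv_mem (Subgroup.mem_zpowers _))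
  have hn' : (x, M) ^ n = (x, M)⁻¹ := hn
  have h1 : x ^ n = x⁻¹ := congrArg Prod.fst hn'
  have h2 : M ^ n = M⁻¹ := congrArg Prod.snd hn'
  rw [← h1, ← h2]; exact rel_pow h n

theorem R_spec {u : pres.Grp × O6} (hu : u ∈ R) : u.1 ∈ C2 ∧ Rel u.1 u.2 := by
  refine Subgroup.closure_induction ?_ ⟨one_mem _, rel_one⟩ ?_ ?_ hu
  · rintro _ ⟨k, rfl⟩; exact ⟨(gen_spec k).2.1, (gen_spec k).2.2⟩
  · intro u v _ _ hu hv; exact ⟨mul_mem hu.1 hv.1, rel_mul hu.2 hv.2⟩
  · intro u _ hu; exact ⟨inv_mem hu.1, rel_inv hu.2⟩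

theorem dec_ok : ∀ k < 6, ((Dat.dec.getD k []).foldl Nat.xor 0 = 2 ^ k) ∧
    ∀ c ∈ Dat.dec.getD k [], c < 64 ∧ pts c ≠ [] := by decide +kernel

theorem single_sum : ∀ i : I6, (Pi.single i 1 : I6 → ZMod 2) = ((Dat.dec.getD (pos i) []).map vec).sum := by
  decide +kernel

theorem rel_unique {M : O6} (h : Rel 1 M) : M = 1 := by
  have hfix : ∀ c < 64, pts c ≠ [] → mv M (vec c) = vec c := by
    intro c hc hne
    have hl := range_spec lines_ok hc
    simp only [linesOK, Bool.and_eq_true, List.all_eq_true] at hl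
    have hd := hl.2 (enc (mv M (vec c))) (List.mem_range.mpr (enc_lt _))
    simp only [Bool.or_eq_true, List.isEmpty_iff, hne, false_or, List.any_eq_true, Bool.not_eq_true'] at hd
    rcases hd with hd | ⟨p, hp, hp'⟩
    · have := Nat.eq_of_beq_eq_true hd
      rw [← vec_enc (mv M (vec c)), ← this]
    · exfalso
      have hm := h (vec c) p (by rwa [enc_vec c hc])
      rw [act_one (pts_spec hc hp).1] at hm
      rw [mem'_iff.mpr hm] at hp'
      exact Bool.noConfusion hp'
  have hsum : ∀ l : List ℕ, (∀ c ∈ l, c < 64 ∧ pts c ≠ []) →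
      mv M (l.map vec).sum = (l.map vec).sum := by
    intro l
    induction l with
    | nil => intro _; simp [mv]
    | cons c l ih =>
      intro hl
      rw [List.map_cons, List.sum_cons]
      show ((M.1 : Matrix I6 I6 (ZMod 2))).mulVec _ = _
      rw [Matrix.mulVec_add]
      exact congrArg₂ (· + ·) (hfix c (hl c (List.mem_cons_self ..)).1 (hl c (List.mem_cons_self ..)).2)
        (ih fun d hd => hl d (List.mem_cons_of_mem _ hd))
  have hpos : ∀ i : I6, pos i < 6 := by decide
  refine Subtype.ext (Units.ext (Matrix.ext_of_mulVec_single fun i => ?_))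
  show mv M (Pi.single i 1) = (1 : Matrix I6 I6 (ZMod 2)).mulVec _
  rw [Matrix.one_mulVec, single_sum i]
  exact hsum _ (dec_ok _ (hpos i)).2

theorem R_inj {u v : pres.Grp × O6} (hu : u ∈ R) (hv : v ∈ R) (h : u.1 = v.1) : u = v := by
  have h1 := (R_spec (mul_mem (inv_mem hu) hv)).2
  have e : (u⁻¹ * v).1 = 1 := by simp [h]
  rw [e] at h1
  have := rel_unique h1
  simp only [Prod.snd_mul, Prod.snd_inv] at this
  exact Prod.ext h (inv_mul_eq_one.mp this)

end Cfsg.Agent.Lead.Fi22Two
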