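import Cfsg.Agent.Lib.Lead.Fi22Two.Bound
import Cfsg.Agent.Lib.Lead.Fi22Two.O6Aut

/-!
The joint centraliser of two commuting members in a group of type M(22) inside the centraliser of
their product.
-/

set_option autoImplicit false
set_option maxRecDepth 100000
set_option linter.unusedSectionVars false

namespace Cfsg.Agent.Lead.Fi22Two.Joint

open Cfsg.Agent.Spor.CC Cfsg.Agent.Spor.Fi22Cert Cfsg.Agent.Spor.Fi22Cert.U62Act
open Cfsg.Agent.Spor.M22U

theorem Qs_mem {x : pres.Grp} (hx : x ∈ Qs) :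
    ∃ (s : ZMod 2), ∃ y ∈ EX, x = tA ^ s.val * y := by
  obtain ⟨⟨s, y⟩, rfl⟩ := hx
  exact ⟨Multiplicative.toAdd s, y, y.2, rfl⟩

/-- the four-group -/
noncomputable abbrev V2 : Subgroup pres.Grp := Subgroup.closure ({tA, bb} : Set pres.Grp)

theorem zz_mem : zz ∈ V2 :=
  mul_mem (Subgroup.subset_closure (Or.inl rfl)) (Subgroup.subset_closure (Or.inr rfl))

theorem tA_cen {x : pres.Grp} (hx : x ∈ Qs) : Commute tA x := by
  obtain ⟨s, y, hy, rfl⟩ := Qs_mem hx
  exact ((Commute.refl tA).pow_right _).mul_right (comm_tA hy)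

theorem bb_cen {x : pres.Grp} (hx : x ∈ Qs) : Commute bb x := by
  have hz : Commute zz x := (Subgroup.mem_centralizer_singleton_iff.mp (Qs_le_C2 hx)).symm
  have := ((tA_cen hx).inv_left).mul_left hz
  rwa [zz, inv_mul_cancel_left] at this

theorem centre_small {x : pres.Grp} (hx : x ∈ Qs) (h : ∀ y ∈ Qs, Commute x y) : x ∈ V2 := by
  obtain ⟨s, y, hy, rfl⟩ := Qs_mem hx
  have hyc : ∀ w ∈ EX, Commute y w := by
    intro w hw
    have hwQ : w ∈ Qs := ⟨(1, ⟨w, hw⟩), by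
      show tA ^ (Multiplicative.toAdd (1 : Multiplicative (ZMod 2))).val * w = w; simp⟩
    have h1 := h w hwQ
    have h2 : Commute (tA ^ s.val)⁻¹ w := ((comm_tA hw).pow_left _).inv_left
    have := h2.mul_left h1
    rwa [inv_mul_cancel_left] at this
  have htA : tA ∈ V2 := Subgroup.subset_closure (Set.mem_insert _ _)
  refine mul_mem (pow_mem htA _) ?_
  rcases (Ext.main pairing binv_ok.2).2.2 y hy hyc with e | e <;> rw [e]
  exacts [one_mem _, zz_mem]

theorem quot_mem {x y : pres.Grp} (hx : x ∈ Qs) (hy : y ∈ Qs) :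
    x * y * x⁻¹ * y⁻¹ ∈ V2 ∧ x ^ 2 ∈ V2 := by
  have hX := (Ext.main pairing binv_ok.2).1
  obtain ⟨a, b, hab⟩ : ∃ a b : Multiplicative (ZMod 2) × ↥EX, qmap a = x ∧ qmap b = y := by
    obtain ⟨a, ha⟩ := hx; obtain ⟨b, hb⟩ := hy; exact ⟨a, b, ha, hb⟩
  have key : ∀ c : ↥EX, c ∈ Subgroup.center ↥EX → qmap (1, c) ∈ V2 := by
    intro c hc
    refine centre_small ⟨_, rfl⟩ fun w hw => ?_
    obtain ⟨⟨s, v⟩, rfl⟩ := hw
    have : Commute ((1, c) : Multiplicative (ZMod 2) × ↥EX) (s, v) :=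
      Prod.ext (mul_comm _ _) (Subgroup.mem_center_iff.mp hc v).symm
    exact this.map qmap
  constructor
  · rw [← hab.1, ← hab.2, ← map_inv, ← map_inv, ← map_mul, ← map_mul, ← map_mul,
      show a * b * a⁻¹ * b⁻¹ = ((1 : Multiplicative (ZMod 2)), a.2 * b.2 * a.2⁻¹ * b.2⁻¹) from
        Prod.ext (by simp [mul_comm]) rfl]
    refine key _ (hX.1.2.2 ▸ ?_)
    rw [commutator_def]
    exact Subgroup.commutator_mem_commutator (Subgroup.mem_top _) (Subgroup.mem_top _)
  · rw [← hab.1, ← map_pow,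
      show a ^ 2 = ((1 : Multiplicative (ZMod 2)), a.2 ^ 2) from Prod.ext (by
        show a.1 ^ 2 = 1
        apply Multiplicative.toAdd.injective
        rw [toAdd_pow, toAdd_one, two_nsmul]
        exact CharTwo.add_self_eq_zero _) rfl]
    exact key _ (Solv.extraspecial_pow_mem_center hX _)

/-- the joint centraliser -/
noncomputable abbrev K2 : Subgroup pres.Grp := Subgroup.centralizer ({tA, bb} : Set pres.Grp)

theorem K2_le : K2 ≤ C2 := by
  intro x hx
  rw [Subgroup.mem_centralizer_iff] at hx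
  exact Subgroup.mem_centralizer_singleton_iff.mpr
    ((show Commute x tA from (hx tA (Or.inl rfl)).symm).mul_right
      (show Commute x bb from (hx bb (Or.inr rfl)).symm)).eq

theorem Qs_le_K2 : Qs ≤ K2 := by
  intro x hx
  rw [Subgroup.mem_centralizer_iff]
  rintro h (rfl | rfl)
  exacts [(tA_cen hx).eq, (bb_cen hx).eq]

variable (hC : Nat.card ↥C2 ≤ 1024 * 51840)

include hC in
theorem center_K2 : (Subgroup.center ↥K2).map K2.subtype = V2 := by
  refine le_antisymm ?_ ?_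
  · rintro _ ⟨x, hx, rfl⟩
    have hcomm : ∀ y ∈ Qs, Commute (x : pres.Grp) y := fun y hy =>
      (congrArg Subtype.val (Subgroup.mem_center_iff.mp hx ⟨y, Qs_le_K2 hy⟩) :).symm
    exact centre_small (cent_le hC ⟨x, K2_le x.2⟩ hcomm) hcomm
  · have hm : tA ∈ K2 ∧ bb ∈ K2 := ⟨Qs_le_K2 zz_mem_Qs.1, Qs_le_K2 zz_mem_Qs.2.1⟩
    rw [V2, Subgroup.closure_le]
    rintro g (rfl | rfl)
    · exact ⟨⟨_, hm.1⟩, Subgroup.mem_center_iff.mpr fun w => Subtype.ext
        (Subgroup.mem_centralizer_iff.mp w.2 tA (Or.inl rfl)).symm, rfl⟩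
    · exact ⟨⟨_, hm.2⟩, Subgroup.mem_center_iff.mpr fun w => Subtype.ext
        (Subgroup.mem_centralizer_iff.mp w.2 bb (Or.inr rfl)).symm, rfl⟩

universe u
variable {G : Type u} [Group G] [Finite G] {D : Set G}
variable (hD : Cfsg.IsThreeTranspositionGroup D) (hprim : Cfsg.IsPrimitiveUnderConj D)
  (ht : Cfsg.IsOfTypeM22 G D)

include hD hprim ht in
theorem result {a b : G} (ha : a ∈ D) (hb : b ∈ D) (hab : a ≠ b) (cab : Commute a b) (K C V : Subgroup G)
    (hK : K = Subgroup.centralizer ({a, b} : Set G)) (hC : C = Subgroup.centralizer ({a * b} : Set G))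
    (hV : V = Subgroup.closure ({a, b} : Set G)) :
    K ≤ C ∧ (K.subgroupOf C).index = 2 ∧ (Subgroup.center ↥K).map K.subtype = V ∧
      ∃ E : Subgroup G, V ≤ E ∧ E ≤ C ∧ (∀ c ∈ C, ∀ x ∈ E, c * x * c⁻¹ ∈ E) ∧ Nat.card E = 2 ^ 10 ∧
        (∀ x ∈ E, ∀ y ∈ E, x * y * x⁻¹ * y⁻¹ ∈ V ∧ x ^ 2 ∈ V) ∧
        ∃ (_ : (E.subgroupOf C).Normal) (F : Type) (_ : Field F) (_ : Fintype F), Fintype.card F = 4 ∧
          Nonempty (↥C ⧸ E.subgroupOf C ≃* MulAut (Cfsg.PSU 4 F 2)) := by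
  obtain ⟨e, he⟩ := Norm.iso_fi22 hD hprim ht
  have hat : e tA ∈ D := he ▸ ⟨_, Fischer.tA_mem, rfl⟩
  have hbb : e bb ∈ D := he ▸ ⟨_, (Cent.dp 6).2, rfl⟩
  have hne : e tA ≠ e bb := fun h => tA_ne_bb (e.injective h)
  obtain ⟨g, g1, g2⟩ := Transit.conj2 hD hprim ht hat hbb hne (tA_bb.map e) ha hb hab cab
  set ψ : pres.Grp ≃* G := e.trans (MulAut.conj g)
  have ha' : ψ tA = a := g1
  have hb' : ψ bb = b := g2
  have hz : ψ zz = a * b := by rw [map_mul, ha', hb']
  have mem_cent : ∀ (S : Set pres.Grp) (x : pres.Grp),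
      ψ x ∈ Subgroup.centralizer (ψ '' S) ↔ x ∈ Subgroup.centralizer S := by
    intro S x
    rw [Subgroup.mem_centralizer_iff, Subgroup.mem_centralizer_iff]
    constructor
    · intro h s hs; apply ψ.injective; rw [map_mul, map_mul]; exact h _ ⟨s, hs, rfl⟩
    · rintro h _ ⟨s, hs, rfl⟩; rw [← map_mul, ← map_mul, h s hs]
  have hKm : K2.map ψ.toMonoidHom = K := by
    ext y
    rw [Subgroup.mem_map_equiv, hK, ← mem_cent, ψ.apply_symm_apply, Set.image_pair, ha', hb']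
  have hCm : C2.map ψ.toMonoidHom = C := by
    ext y
    rw [Subgroup.mem_map_equiv, hC, ← mem_cent, ψ.apply_symm_apply, Set.image_singleton, hz]
  have hVm : V2.map ψ.toMonoidHom = V := by
    rw [hV, MonoidHom.map_closure]
    congr 1
    rw [Set.image_pair]
    exact congrArg₂ (fun p q : G => ({p, q} : Set G)) ha' hb'
  let θ : ↥C2 ≃* ↥C := (C2.equivMapOfInjective ψ.toMonoidHom ψ.injective).trans (MulEquiv.subgroupCongr hCm)
  have hbound : Nat.card ↥C2 ≤ 1024 * 51840 := by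
    have h := card_cent_le hD hprim ht ha hb hab cab
    rw [← hC, ← Nat.card_congr θ.toEquiv] at h
    exact h
  refine ⟨?_, ?_, ?_, Qs.map ψ.toMonoidHom, ?_, ?_, ?_, ?_, ?_, ?_⟩
  · rw [← hKm, ← hCm]; exact Subgroup.map_mono K2_le
  · obtain ⟨t, t1, t2⟩ := Transit.conj2 hD hprim ht ha hb hab cab hb ha (Ne.symm hab) cab.symm
    have htC : t ∈ C := by
      rw [hC, Subgroup.mem_centralizer_singleton_iff]
      refine mul_inv_eq_iff_eq_mul.mp ?_
      rw [show t * (a * b) * t⁻¹ = (t * a * t⁻¹) * (t * b * t⁻¹) by group, t1, t2]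
      exact cab.eq.symm
    refine Subgroup.index_eq_two_iff.mpr ⟨⟨t, htC⟩, fun x => ?_⟩
    simp only [Subgroup.mem_subgroupOf, Subgroup.coe_mul, hK]
    have hx : (x : G) ∈ Subgroup.centralizer ({a * b} : Set G) := hC ▸ x.2
    have hpair : (x : G) * a * (x : G)⁻¹ ∈ ({a, b} : Set G) := by
      refine Triples.pair_member hD hprim ht ha hb (hD.2.1 _ a ha) (hD.2.1 _ b hb) hab cab
        (Spor.commute_conj_iff.mpr cab) ?_
      rw [show ((x : G) * a * (x : G)⁻¹) * ((x : G) * b * (x : G)⁻¹) = (x : G) * (a * b) * (x : G)⁻¹ by group,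
        Subgroup.mem_centralizer_singleton_iff.mp hx, mul_inv_cancel_right]
    have mem : ∀ y : G, y ∈ Subgroup.centralizer ({a * b} : Set G) →
        (y ∈ Subgroup.centralizer ({a, b} : Set G) ↔ y * a * y⁻¹ = a) := by
      intro y hy
      rw [Subgroup.mem_centralizer_iff]
      constructor
      · intro h; rw [← h a (Or.inl rfl), mul_inv_cancel_right]
      · intro h
        have h1 : Commute y a := mul_inv_eq_iff_eq_mul.mp h
        rintro s (rfl | rfl)
        · exact h1.symm.eq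
        · have h3 := h1.inv_right.mul_right (Subgroup.mem_centralizer_singleton_iff.mp hy : Commute y (a * s))
          rw [inv_mul_cancel_left] at h3
          exact h3.symm.eq
    have htt : t * t ∈ Subgroup.centralizer ({a * b} : Set G) := mul_mem (hC ▸ htC) (hC ▸ htC)
    rw [mem _ (mul_mem hx (hC ▸ htC)), mem _ hx,
      show (x : G) * t * a * ((x : G) * t)⁻¹ = (x : G) * (t * a * t⁻¹) * (x : G)⁻¹ by group, t1]
    rcases hpair with h | h
    · refine Or.inr ⟨h, fun h' => hab ?_⟩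
      exact mul_left_cancel (mul_right_cancel (h.trans h'.symm))
    · refine Or.inl ⟨?_, fun h' => hab (h'.symm.trans h)⟩
      have hprod : (x : G) * a * (x : G)⁻¹ * ((x : G) * b * (x : G)⁻¹) = a * b := by
        rw [show ((x : G) * a * (x : G)⁻¹) * ((x : G) * b * (x : G)⁻¹) = (x : G) * (a * b) * (x : G)⁻¹ by group,
          Subgroup.mem_centralizer_singleton_iff.mp hx, mul_inv_cancel_right]
      rw [h, cab.eq] at hprod
      exact mul_left_cancel hprod
  · rw [← hKm, ← hVm, ← center_K2 hbound, Subgroup.map_map]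
    ext y
    constructor
    · rintro ⟨⟨_, ⟨x, hx, rfl⟩⟩, hc, rfl⟩
      exact ⟨⟨x, hx⟩, Subgroup.mem_center_iff.mpr fun w => Subtype.ext (ψ.injective (by
        have this : True := trivial
        replace this := congrArg Subtype.val (Subgroup.mem_center_iff.mp hc ⟨ψ w, w.1, w.2, rfl⟩)
        show ψ ((w : pres.Grp) * x) = ψ (x * (w : pres.Grp))
        rw [map_mul, map_mul]
        exact this)), rfl⟩
    · rintro ⟨x, hx, rfl⟩
      refine ⟨⟨ψ x, x.1, x.2, rfl⟩, Subgroup.mem_center_iff.mpr fun w => Subtype.ext ?_, rfl⟩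
      obtain ⟨w', hw', hww⟩ := w.2
      have := congrArg Subtype.val (Subgroup.mem_center_iff.mp hx ⟨w', hw'⟩)
      show (w : G) * ψ x = ψ x * w
      rw [← hww]
      show ψ w' * ψ x = ψ x * ψ w'
      rw [← map_mul, ← map_mul]
      exact congrArg ψ this
  · rw [← hVm]
    refine Subgroup.map_mono ?_
    rw [V2, Subgroup.closure_le]
    rintro s (rfl | rfl)
    exacts [zz_mem_Qs.1, zz_mem_Qs.2.1]
  · rw [← hCm]; exact Subgroup.map_mono Qs_le_C2
  · intro c hc x hx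
    obtain ⟨q, hq, rfl⟩ := hx
    rw [← hCm] at hc
    obtain ⟨c', hc', rfl⟩ := hc
    refine ⟨c' * q * c'⁻¹, ?_, by simp⟩
    haveI : (Qs.subgroupOf C2).Normal := ker_phi hbound ▸ MonoidHom.normal_ker _
    exact Subgroup.mem_subgroupOf.mp
      (Subgroup.Normal.conj_mem inferInstance ⟨q, Qs_le_C2 hq⟩ (Subgroup.mem_subgroupOf.mpr hq) ⟨c', hc'⟩)
  · rw [Subgroup.card_map_of_injective ψ.injective, card_Qs]; norm_num
  · rintro _ ⟨x, hx, rfl⟩ _ ⟨y, hy, rfl⟩
    obtain ⟨h1, h2⟩ := quot_mem hx hy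
    rw [← hVm, ← map_inv, ← map_inv, ← map_mul, ← map_mul, ← map_mul, ← map_pow]
    exact ⟨⟨_, h1, rfl⟩, ⟨_, h2, rfl⟩⟩
  obtain ⟨ι⟩ := o6_aut
  set f : ↥C →* O6 := (phi hbound).comp θ.symm.toMonoidHom
  have hk : (Qs.map ψ.toMonoidHom).subgroupOf C = f.ker := by
    ext y
    rw [← MonoidHom.comap_ker, ker_phi hbound, Subgroup.mem_comap, Subgroup.mem_subgroupOf,
      Subgroup.mem_subgroupOf, Subgroup.mem_map_equiv]
    have : ψ ((θ.symm y : ↥C2) : pres.Grp) = (y : G) := congrArg Subtype.val (θ.apply_symm_apply y)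
    show ψ.symm (y : G) ∈ Qs ↔ ((θ.symm y : ↥C2) : pres.Grp) ∈ Qs
    rw [← this, ψ.symm_apply_apply]
  haveI hn : ((Qs.map ψ.toMonoidHom).subgroupOf C).Normal := hk ▸ MonoidHom.normal_ker f
  refine ⟨hn, Cfsg.Agent.Spor.SpFour.F4, inferInstance, inferInstance, by decide, ⟨?_⟩⟩
  exact ((QuotientGroup.quotientMulEquivOfEq hk).trans
    (QuotientGroup.quotientKerEquivOfSurjective f ((phi_surj hbound).comp θ.symm.surjective))).trans ι

end Cfsg.Agent.Lead.Fi22Two.Joint
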