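import Cfsg.Agent.Lib.Lead.Fi22Two.Group
import Cfsg.Agent.Lib.Fusion.LocalConstrained

/-!
Structure of the centraliser of a product of two commuting members of Fi22, given an upper bound on
its order.
-/

set_option autoImplicit false
set_option maxRecDepth 100000
set_option linter.unusedSectionVars false

namespace Cfsg.Agent.Lead.Fi22Two

open Cfsg.Agent.Spor.CC Cfsg.Agent.Spor.Fi22Cert Cfsg.Agent.Spor.Fi22Cert.U62Act
open Cfsg.Agent.Spor.M22U Cfsg.Agent.Spor.M22U.Cent

/-- one of the eight -/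
noncomputable def qe (i : Fin 8) : pres.Grp := el (qW i.val)

/-- the pairing -/
def bq (i j : Fin 8) : ZMod 2 := if bent i.val j.val = 1 then 1 else 0

theorem bb_sq : bb * bb = 1 := Spor.mul_self_of_order_two (Fischer.three.1.1 _ (dp 6).2)

theorem tA_sq : tA * tA = 1 := Pres.gen_sq pres_ok 0

theorem tA_bb : Commute tA bb := by
  rw [← dp_zero]
  exact (adjb_iff pts_ok (by norm_num) (by norm_num)).mp (by decide +kernel)

theorem tA_ne_bb : tA ≠ bb := fun h => by
  rw [← dp_zero] at h
  have h2 := congrArg (fun d : Fischer.Dc => (Fischer.theta d : ℕ)) (Subtype.ext h : dp 0 = dp 6)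
  simp only [theta_dp pts_ok (show (0 : ℕ) < 3510 by norm_num), theta_dp pts_ok (show (6 : ℕ) < 3510 by norm_num)] at h2
  omega

theorem zz_sq : zz * zz = 1 := by
  rw [show zz * zz = tA * (bb * tA) * bb by group, tA_bb.symm.eq, ← mul_assoc, tA_sq, one_mul, bb_sq]

theorem pair_spec (i : Fin 8) :
    qe i * qe i = 1 ∧ Commute (qe i) tA ∧ Commute (qe i) bb ∧
      ∀ j : Fin 8, qe i * qe j * (qe i)⁻¹ = zz ^ (bq i j).val * qe j := by
  have h := range_spec pairs_ok i.2
  simp only [pairOK, Bool.and_eq_true, List.all_eq_true] at h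
  obtain ⟨⟨⟨h1, h2⟩, h3⟩, h4⟩ := h
  refine ⟨?_, ?_, ?_, fun j => ?_⟩
  · have := triv_spec h1; rwa [el_append] at this
  · have := triv_spec h2
    rw [el_append, el_append, el_append, el_rev, el_zero] at this
    have e : el (qW i.val) * tA * (el (qW i.val))⁻¹ = tA⁻¹ := eq_inv_of_mul_eq_one_left this
    rw [inv_eq_of_mul_eq_one_left tA_sq, mul_inv_eq_iff_eq_mul] at e
    exact e
  · have := triv_spec h3
    rw [el_append, el_append, el_append, el_rev, el_rev, el_b, mul_inv_eq_one, mul_inv_eq_iff_eq_mul] at this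
    exact this
  · obtain ⟨h5, h6⟩ := h4 j.val (List.mem_range.mpr j.2)
    have := triv_spec h6
    by_cases hb : bent i.val j.val = 1
    · rw [hb] at this
      rw [show Nat.beq 1 1 = true from rfl, cond_true, el_append, el_append, el_append, el_append, el_rev,
        el_rev, el_rev, el_z, inv_eq_of_mul_eq_one_left zz_sq] at this
      have e := eq_inv_of_mul_eq_one_left this
      rw [inv_eq_of_mul_eq_one_left zz_sq, mul_inv_eq_iff_eq_mul] at e
      simp only [bq, hb, if_true, ZMod.val_one, pow_one]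
      exact e
    · have h0 : bent i.val j.val = 0 := by have := Nat.le_of_ble_eq_true h5; omega
      rw [h0, show Nat.beq 0 1 = false from rfl, cond_false, List.append_nil, el_append, el_append, el_append,
        el_rev, el_rev, mul_inv_eq_one] at this
      simp only [bq, h0, if_neg (show ¬ (0 : ℕ) = 1 by norm_num), ZMod.val_zero, pow_zero, one_mul]
      exact this

/-- the inverse of the pairing -/
def binvM (i j : Fin 8) : ZMod 2 := if (Dat.binv.getD i.val []).getD j.val 0 = 1 then 1 else 0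

theorem binv_ok : (∀ i k : Fin 8, ∑ j, binvM i j * bq j k = if i = k then 1 else 0) ∧ ∃ i j, bq i j ≠ 0 := by
  decide +kernel

theorem pairing : Ext.Pairing zz qe bq where
  ne h := tA_ne_bb ((eq_inv_of_mul_eq_one_left h).trans (inv_eq_of_mul_eq_one_left bb_sq))
  csq := zz_sq
  esq i := (pair_spec i).1
  cen i := ((pair_spec i).2.1.symm.mul_left (pair_spec i).2.2.1.symm)
  pair i j := (pair_spec i).2.2.2 j
  nondeg := ⟨binvM, binv_ok.1⟩

/-- the extraspecial part -/
noncomputable abbrev EX : Subgroup pres.Grp := Ext.gen zz qe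

theorem comm_tA {x : pres.Grp} (hx : x ∈ EX) : Commute tA x := by
  have h : EX ≤ Subgroup.centralizer ({tA} : Set pres.Grp) := by
    rw [EX, Ext.gen, Subgroup.closure_le]
    rintro y (rfl | ⟨i, rfl⟩)
    · exact Subgroup.mem_centralizer_singleton_iff.mpr ((Commute.refl tA).mul_left tA_bb.symm).eq
    · exact Subgroup.mem_centralizer_singleton_iff.mpr (pair_spec i).2.1.eq
  exact (Subgroup.mem_centralizer_singleton_iff.mp (h hx)).symm

theorem pow_two_val (s t : ZMod 2) : tA ^ (s + t).val = tA ^ s.val * tA ^ t.val := by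
  rw [← pow_add, ZMod.val_add]
  conv_rhs => rw [← Nat.mod_add_div (s.val + t.val) 2, pow_add, pow_mul, pow_two, tA_sq, one_pow, mul_one]

theorem dc_ne_one {x : pres.Grp} (hx : x ∈ Fischer.Dc) : x ≠ 1 := fun h => by
  have := Fischer.three.1.1 x hx
  rw [h, orderOf_one] at this
  omega

/-- the powers of the first member -/
noncomputable def tHom : Multiplicative (ZMod 2) →* pres.Grp where
  toFun s := tA ^ (Multiplicative.toAdd s).val
  map_one' := by simp
  map_mul' s t := pow_two_val _ _

/-- the product map -/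
noncomputable def qmap : Multiplicative (ZMod 2) × ↥EX →* pres.Grp :=
  tHom.noncommCoprod EX.subtype fun _ y => (comm_tA y.2).pow_left _

/-- the normal two-subgroup -/
noncomputable abbrev Qs : Subgroup pres.Grp := qmap.range

theorem qmap_inj : Function.Injective qmap := by
  refine (injective_iff_map_eq_one _).mpr ?_
  rintro ⟨s, y⟩ h
  change tA ^ (Multiplicative.toAdd s).val * (y : pres.Grp) = 1 at h
  have h01 : ∀ u : ZMod 2, u = 0 ∨ u = 1 := fun u => by fin_cases u; exacts [Or.inl rfl, Or.inr rfl]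
  rcases h01 (Multiplicative.toAdd s) with hs | hs <;> rw [hs] at h
  · rw [ZMod.val_zero, pow_zero, one_mul] at h
    have : s = 1 := Multiplicative.toAdd.injective (hs.trans toAdd_one.symm)
    rw [this, show y = 1 from Subtype.ext h]
    rfl
  · exfalso
    rw [ZMod.val_one, pow_one] at h
    have hy : (y : pres.Grp) = tA := by
      rw [eq_inv_of_mul_eq_one_right h]; exact inv_eq_of_mul_eq_one_left tA_sq
    have hm : tA ∈ EX := hy ▸ y.2
    rcases (Ext.main pairing binv_ok.2).2.2 tA hm (fun z hz => comm_tA hz) with h1 | h1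
    · exact dc_ne_one Fischer.tA_mem h1
    · exact dc_ne_one (dp 6).2 (mul_eq_left.mp h1.symm)

theorem card_Qs : Nat.card ↥Qs = 1024 := by
  rw [show Nat.card ↥Qs = Nat.card (Multiplicative (ZMod 2) × ↥EX) from
    (Nat.card_congr (MonoidHom.ofInjective qmap_inj).toEquiv).symm, Nat.card_prod,
    (Ext.main pairing binv_ok.2).2.1]
  simp [Nat.card_eq_fintype_card]

theorem tail_words : ∀ i < 8, gwd (i + 8) = qW i ∧ gwd 6 = [0] ∧ gwd 7 = bW := by decide +kernel

theorem tail_one : ∀ k < 16, 6 ≤ k → mat (Dat.gens.getD k ([], [])).2 = 1 := by decide +kernel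

theorem giso_one {k : Fin 16} (h : 6 ≤ k.val) : giso k = 1 :=
  Subtype.ext (Units.ext (tail_one k.val k.2 h))

theorem Qs_le {x : pres.Grp} (hx : x ∈ Qs) : (x, (1 : O6)) ∈ R := by
  have base : ∀ k : Fin 16, 6 ≤ k.val → (el (gwd k.val), (1 : O6)) ∈ R := fun k hk =>
    Subgroup.subset_closure ⟨k, by rw [gp, giso_one hk]⟩
  set K : Subgroup pres.Grp := R.comap (MonoidHom.inl pres.Grp O6)
  have ha : tA ∈ K := by
    have := base ⟨6, by norm_num⟩ le_rfl
    rwa [(tail_words 0 (by norm_num)).2.1, el_zero] at this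
  have hb : bb ∈ K := by
    have := base ⟨7, by norm_num⟩ (by norm_num)
    rwa [(tail_words 0 (by norm_num)).2.2, el_b] at this
  have hE : EX ≤ K := by
    rw [EX, Ext.gen, Subgroup.closure_le]
    rintro y (rfl | ⟨i, rfl⟩)
    · exact mul_mem ha hb
    · have := base ⟨i.val + 8, by omega⟩ (by show 6 ≤ i.val + 8; omega)
      rwa [(tail_words i.val i.2).1] at this
  obtain ⟨⟨s, y⟩, rfl⟩ := hx
  exact mul_mem (pow_mem ha _) (hE y.2)

/-- the matrix of a word -/
noncomputable def wm (w : List ℕ) : O6 := (w.map fun k => if h : k < 16 then giso ⟨k, h⟩ else 1).prod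

theorem wm_mem {w : List ℕ} : wm w ∈ R.map (MonoidHom.snd pres.Grp O6) := by
  refine list_prod_mem fun m hm => ?_
  obtain ⟨k, -, rfl⟩ := List.mem_map.mp hm
  split_ifs with h
  · exact ⟨gp ⟨k, h⟩, Subgroup.subset_closure ⟨_, rfl⟩, rfl⟩
  · exact one_mem _

theorem enc_wm : ∀ {w : List ℕ}, (∀ k ∈ w, k < 16) → ∀ v, enc (mv (wm w) v) = appW w (enc v)
  | [], _, v => by simp [wm, appW, mv_one]
  | k :: w, hw, v => by
    have hk := hw k (List.mem_cons_self ..)
    have ih := enc_wm (fun j hj => hw j (List.mem_cons_of_mem _ hj)) v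
    show enc (mv (wm (k :: w)) v) = app _ (appW w (enc v))
    rw [show wm (k :: w) = giso ⟨k, hk⟩ * wm w by simp [wm, hk], mv_mul, enc_giso, ih]

theorem chain_bound (S : Subgroup O6) (hS : ∀ w, wm w ∈ S) :
    ∀ (L : List (ℕ × List (List ℕ))) (done : List ℕ), (∀ d ∈ done, d < 64) → chainOK2 done L = true →
      (L.map fun e => e.2.length).prod ≤ Nat.card {M : O6 // M ∈ S ∧ ∀ d ∈ done, mv M (vec d) = vec d}
  | [], done, _, _ => by
    haveI : Nonempty {M : O6 // M ∈ S ∧ ∀ d ∈ done, mv M (vec d) = vec d} :=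
      ⟨⟨1, one_mem _, fun d _ => mv_one _⟩⟩
    exact Nat.card_pos
  | (v, ws) :: L, done, hdone, h => by
    simp only [chainOK2, levelOK, Bool.and_eq_true, decide_eq_true_eq, List.all_eq_true] at h
    obtain ⟨⟨⟨hws, hnd⟩, hv'⟩, hrest⟩ := h
    have hv : v < 64 := Nat.le_of_ble_eq_true hv'
    have ih := chain_bound S hS L (v :: done) (by
      intro d hd; rcases List.mem_cons.mp hd with rfl | hd
      exacts [hv, hdone d hd]) hrest
    have hlt : ∀ w ∈ ws, ∀ k ∈ w, k < 16 := fun w hw k hk => Nat.le_of_ble_eq_true ((hws w hw).1 k hk)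
    have hfix : ∀ w ∈ ws, ∀ d ∈ done, mv (wm w) (vec d) = vec d := by
      intro w hw d hd
      rw [← vec_enc (mv (wm w) (vec d)), enc_wm (hlt w hw), enc_vec d (hdone d hd),
        Nat.eq_of_beq_eq_true ((hws w hw).2 d hd)]
    let f : Fin ws.length × {M : O6 // M ∈ S ∧ ∀ d ∈ v :: done, mv M (vec d) = vec d} →
        {M : O6 // M ∈ S ∧ ∀ d ∈ done, mv M (vec d) = vec d} := fun q =>
      ⟨wm (ws.get q.1) * q.2.1, mul_mem (hS _) q.2.2.1, fun d hd => by
        rw [mv_mul, q.2.2.2 d (List.mem_cons_of_mem _ hd), hfix _ (List.get_mem ..) d hd]⟩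
    have hf : Function.Injective f := by
      rintro ⟨i, s⟩ ⟨j, t⟩ hq
      have hq' : wm (ws.get i) * s.1 = wm (ws.get j) * t.1 := congrArg Subtype.val hq
      have e := congrArg (fun M => enc (mv M (vec v))) hq'
      simp only [mv_mul, s.2.2 v (List.mem_cons_self ..), t.2.2 v (List.mem_cons_self ..),
        enc_wm (hlt _ (List.get_mem ..)), enc_vec v hv] at e
      have hij : i = j := by
        have hi : (ws.map fun w => appW w v)[i.val]'(by simp) = (ws.map fun w => appW w v)[j.val]'(by simp) := by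
          simpa using e
        exact Fin.ext (hnd.getElem_inj_iff.mp hi)
      subst hij
      exact Prod.ext rfl (Subtype.ext (mul_left_cancel hq'))
    calc ((((v, ws) :: L).map fun e => e.2.length)).prod = ws.length * (L.map fun e => e.2.length).prod := by simp
      _ ≤ ws.length * Nat.card {M : O6 // M ∈ S ∧ ∀ d ∈ v :: done, mv M (vec d) = vec d} :=
        Nat.mul_le_mul_left _ ih
      _ = Nat.card (Fin ws.length × {M : O6 // M ∈ S ∧ ∀ d ∈ v :: done, mv M (vec d) = vec d}) := by simp
      _ ≤ _ := Nat.card_le_card_of_injective f hf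

theorem snd_top : R.map (MonoidHom.snd pres.Grp O6) = ⊤ := by
  refine Subgroup.eq_top_of_le_card _ ?_
  rw [card_O, ← misc_ok.2.2.1]
  refine (chain_bound _ (fun w => wm_mem) Dat.levels [] (by simp) chain_ok).trans ?_
  exact Nat.card_le_card_of_injective (fun M => ⟨M.1, M.2.1⟩) (fun M N h => Subtype.ext (congrArg (fun q : ↥(R.map (MonoidHom.snd pres.Grp O6)) => q.1) h))

end Cfsg.Agent.Lead.Fi22Two
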