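import Cfsg.Agent.Lib.Lead.Fi22Two.SylDefs

/-!
The checks for a Sylow two-subgroup of Fi22, evaluated.
-/

set_option autoImplicit false
set_option maxRecDepth 100000
set_option Elab.async false

namespace Cfsg.Agent.Lead.Fi22Two.Syl

open Cfsg.Agent.Spor.CC Cfsg.Agent.Spor.M22U.Cent

theorem genperm_ok : rangeOK genPermOK 0 7 = true := by decide +kernel
theorem compose_ok : rangeOK composeOK 0 7 = true := by decide +kernel
theorem mems_ok : rangeOK memOK 0 22 = true := by decide +kernel
theorem inj0 : rangeOK injOK 0 128 = true := by decide +kernel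
theorem inj1 : rangeOK injOK 128 128 = true := by decide +kernel
theorem inj2 : rangeOK injOK 256 128 = true := by decide +kernel
theorem inj3 : rangeOK injOK 384 128 = true := by decide +kernel
theorem inj4 : rangeOK injOK 512 128 = true := by decide +kernel
theorem inj5 : rangeOK injOK 640 128 = true := by decide +kernel
theorem inj6 : rangeOK injOK 768 128 = true := by decide +kernel
theorem inj7 : rangeOK injOK 896 128 = true := by decide +kernel
theorem pc_ok : rangeOK pcOK 0 7 = true := by decide +kernel
theorem scan0 : rangeOK scanOK 0 1755 = true := by decide +kernel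
theorem scan1 : rangeOK scanOK 1755 1755 = true := by decide +kernel
theorem fix0 : rangeOK fixBoundOK 0 32 = true := by decide +kernel
theorem fix1 : rangeOK fixBoundOK 32 32 = true := by decide +kernel
theorem fix2 : rangeOK fixBoundOK 64 32 = true := by decide +kernel
theorem fix3 : rangeOK fixBoundOK 96 32 = true := by decide +kernel

theorem syl_misc : SDat.B.length = 22 ∧ SDat.gws.length = 7 ∧ (rW 0 == []) = true ∧
    ((List.range 128).map fun m => SDat.perms.getD m []).Nodup ∧
    (∀ m < 128, (SDat.perms.getD m []).length = 22) ∧
    (∀ i < 22, pim 0 i = i) ∧ (∀ k < 10, SDat.bas.getD k 0 < 22) ∧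
    (SDat.gws.all fun w => w.all fun x => Nat.blt x 9) = true ∧ (∀ i < 22, bp i < 3510) := by decide +kernel

end Cfsg.Agent.Lead.Fi22Two.Syl
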