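import Cfsg.Agent.Lib.Lead.Fi22Two.Struct
import Cfsg.Agent.Lib.Lead.Fi22Two.SylChecks

/-!
A Sylow two-subgroup of Fi22, the members in it, and its Thompson subgroup.
-/

set_option autoImplicit false
set_option maxRecDepth 100000
set_option linter.unusedSectionVars false

namespace Cfsg.Agent.Lead.Fi22Two.Syl

open Cfsg.Agent.Spor.CC Cfsg.Agent.Spor.Fi22Cert Cfsg.Agent.Spor.Fi22Cert.U62Act
open Cfsg.Agent.Spor.M22U Cfsg.Agent.Spor.M22U.Cent

theorem nat_beq {a b : ℕ} (h : Nat.beq a b = true) : a = b := Nat.eq_of_beq_eq_true h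

theorem chunk (f : ℕ → Bool) (s n : ℕ) (h : rangeOK f s n = true) {k : ℕ} (h1 : s ≤ k) (h2 : k < s + n) :
    f k = true := by
  have := List.all_eq_true.mp h (k - s) (List.mem_range.mpr (by omega))
  rwa [show Nat.add s (k - s) = k from Nat.add_sub_cancel' h1] at this

theorem inj_ok {c : ℕ} (hc : c < 1024) : injOK c = true := by
  rcases (show c < 128 ∨ (128 ≤ c ∧ c < 256) ∨ (256 ≤ c ∧ c < 384) ∨ (384 ≤ c ∧ c < 512) ∨ (512 ≤ c ∧ c < 640) ∨
    (640 ≤ c ∧ c < 768) ∨ (768 ≤ c ∧ c < 896) ∨ (896 ≤ c ∧ c < 1024) by omega) with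
    h | ⟨a, b⟩ | ⟨a, b⟩ | ⟨a, b⟩ | ⟨a, b⟩ | ⟨a, b⟩ | ⟨a, b⟩ | ⟨a, b⟩
  exacts [chunk _ _ _ inj0 (Nat.zero_le _) (by omega), chunk _ _ _ inj1 a (by omega), chunk _ _ _ inj2 a (by omega),
    chunk _ _ _ inj3 a (by omega), chunk _ _ _ inj4 a (by omega), chunk _ _ _ inj5 a (by omega),
    chunk _ _ _ inj6 a (by omega), chunk _ _ _ inj7 a (by omega)]

theorem fix_bound {a : ℕ} (ha : a < 128) : fixBoundOK a = true := by
  rcases (show a < 32 ∨ (32 ≤ a ∧ a < 64) ∨ (64 ≤ a ∧ a < 96) ∨ (96 ≤ a ∧ a < 128) by omega) with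
    h | ⟨a', b⟩ | ⟨a', b⟩ | ⟨a', b⟩
  exacts [chunk _ _ _ fix0 (Nat.zero_le _) (by omega), chunk _ _ _ fix1 a' (by omega),
    chunk _ _ _ fix2 a' (by omega), chunk _ _ _ fix3 a' (by omega)]

theorem bp_lt {i : ℕ} (hi : i < 22) : bp i < 3510 := syl_misc.2.2.2.2.2.2.2.2 i hi

theorem bas_lt {k : ℕ} (hk : k < 10) : SDat.bas.getD k 0 < 22 := syl_misc.2.2.2.2.2.2.1 k hk

/-- a member -/
noncomputable def mm (i : ℕ) : pres.Grp := (dp (bp i) : pres.Grp)

theorem mm_el (i : ℕ) : mm i = el (mwd i) := InvClasses.tw_prod _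

theorem mm_sq (i : ℕ) : mm i * mm i = 1 := Spor.mul_self_of_order_two (Fischer.three.1.1 _ (dp (bp i)).2)

theorem mm_comm {i j : ℕ} (hi : i < 22) (hj : j < 22) : Commute (mm i) (mm j) := by
  have h := range_spec mems_ok hi
  simp only [memOK, Bool.and_eq_true, List.all_eq_true, List.mem_range] at h
  exact (adjb_iff pts_ok (bp_lt hi) (bp_lt hj)).mp (h.1.1 j hj)

theorem el_nil' : el [] = 1 := by simp [el]

/-- product of basis members by bits -/
noncomputable def en (c : ℕ) : ℕ → pres.Grp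
  | 0 => 1
  | n + 1 => en c n * bif Nat.testBit c n then mm (SDat.bas.getD n 0) else 1

theorem el_eWn (c : ℕ) : ∀ n, el (eWn c n) = en c n
  | 0 => el_nil'
  | n + 1 => by
    rw [eWn, el_append, el_eWn c n, en]
    cases Nat.testBit c n
    · simp [el_nil']
    · simp [mm_el]

/-- the element of a code -/
noncomputable def eG (c : ℕ) : pres.Grp := en c 10

theorem el_eW (c : ℕ) : el (eW c) = eG c := el_eWn c 10

theorem en_comm_mm (c : ℕ) {i : ℕ} (hi : i < 22) : ∀ n ≤ 10, Commute (en c n) (mm i)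
  | 0, _ => Commute.one_left _
  | n + 1, hn => by
    rw [en]
    refine (en_comm_mm c hi n (by omega)).mul_left ?_
    cases Nat.testBit c n
    · exact Commute.one_left _
    · exact mm_comm (bas_lt (by omega)) hi

theorem en_xor (c d : ℕ) : ∀ n ≤ 10, en (Nat.xor c d) n = en c n * en d n
  | 0, _ => (one_mul _).symm
  | n + 1, hn => by
    simp only [en, en_xor c d n (by omega)]
    rw [show Nat.testBit (Nat.xor c d) n = (Nat.testBit c n ^^ Nat.testBit d n) from Nat.testBit_xor c d n]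
    have hm := bas_lt (k := n) (by omega)
    have hcm := en_comm_mm d hm n (by omega)
    cases Nat.testBit c n <;> cases Nat.testBit d n <;>
      simp only [Bool.xor_false, Bool.false_xor, Bool.xor_self, Bool.xor_true, Bool.not_false, cond_true,
        cond_false, mul_one, one_mul]
    · rw [mul_assoc]
    · rw [mul_assoc, mul_assoc, hcm.eq]
    · rw [← mul_assoc, mul_assoc (en c n), ← hcm.eq, ← mul_assoc, mul_assoc _ (mm (SDat.bas.getD n 0)), mm_sq,
        mul_one]

theorem eG_mul (c d : ℕ) : eG c * eG d = eG (Nat.xor c d) := (en_xor c d 10 le_rfl).symm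

theorem eG_zero : eG 0 = 1 := by simp [eG, en, Nat.zero_testBit]

theorem eG_sq (c : ℕ) : eG c * eG c = 1 := by rw [eG_mul, show Nat.xor c c = 0 from Nat.xor_self c, eG_zero]

theorem eG_comm (c d : ℕ) : Commute (eG c) (eG d) := by
  show _ = _
  rw [eG_mul, eG_mul, show Nat.xor c d = Nat.xor d c from Nat.xor_comm c d]

theorem xor_lt {c d : ℕ} (hc : c < 1024) (hd : d < 1024) : Nat.xor c d < 1024 :=
  Nat.xor_lt_two_pow (n := 10) hc hd

theorem mm_code {i : ℕ} (hi : i < 22) : SDat.code.getD i 0 < 1024 ∧ mm i = eG (SDat.code.getD i 0) := by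
  have h := range_spec mems_ok hi
  simp only [memOK, Bool.and_eq_true] at h
  refine ⟨Nat.le_of_ble_eq_true h.1.2, ?_⟩
  have := triv_spec h.2
  rw [el_append, el_rev, ← mm_el, el_eW, mul_inv_eq_one] at this
  exact this

theorem mwd_lt {i : ℕ} (hi : i < 22) : ∀ x ∈ mwd i, x < 9 := by
  intro x hx
  rw [mwd, Fischer.tw', List.mem_append, List.mem_cons, List.mem_reverse] at hx
  rcases hx with h | rfl | h
  · exact pw_lt pts_ok (bp_lt hi) x h
  · norm_num
  · exact pw_lt pts_ok (bp_lt hi) x h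

theorem eWn_lt (c : ℕ) : ∀ n ≤ 10, ∀ x ∈ eWn c n, x < 9
  | 0, _, x, hx => by simp [eWn] at hx
  | n + 1, hn, x, hx => by
    rw [eWn, List.mem_append] at hx
    rcases hx with h | h
    · exact eWn_lt c n (by omega) x h
    · revert h
      cases Nat.testBit c n
      · simp
      · exact fun h => mwd_lt (bas_lt (by omega)) x h

theorem eG_inj {c d : ℕ} (hc : c < 1024) (hd : d < 1024) (h : eG c = eG d) : c = d := by
  have h1 : eG (Nat.xor c d) = 1 := by rw [← eG_mul, h, eG_sq]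
  have hi := inj_ok (xor_lt hc hd)
  simp only [injOK, Bool.or_eq_true, List.any_eq_true, Bool.not_eq_true'] at hi
  rcases hi with hi | ⟨b, hb, hne⟩
  · exact Nat.xor_eq_zero_iff.mp (nat_beq hi)
  · exfalso
    have hb' : b < 3510 := (show ∀ b ∈ base, b < 3510 by decide +kernel) b hb
    rw [← act_el (show ∀ x ∈ eW (Nat.xor c d), x < 9 from eWn_lt _ 10 le_rfl) hb', el_eW, h1, act_one hb',
      Nat.beq_refl] at hne
    exact Bool.noConfusion hne

/-- the abelian subgroup -/
noncomputable def EE : Subgroup pres.Grp where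
  carrier := {x | ∃ c < 1024, x = eG c}
  mul_mem' := by rintro _ _ ⟨c, hc, rfl⟩ ⟨d, hd, rfl⟩; exact ⟨_, xor_lt hc hd, eG_mul c d⟩
  one_mem' := ⟨0, by norm_num, eG_zero.symm⟩
  inv_mem' := by rintro _ ⟨c, hc, rfl⟩; exact ⟨c, hc, inv_eq_of_mul_eq_one_left (eG_sq c)⟩

theorem card_EE : Nat.card ↥EE = 1024 := by
  have e : Nat.card ↥EE = Nat.card (Fin 1024) := (Nat.card_congr (Equiv.ofBijective
    (fun c : Fin 1024 => (⟨eG c.val, c.val, c.2, rfl⟩ : ↥EE))
    ⟨fun c d h => Fin.ext (eG_inj c.2 d.2 (congrArg Subtype.val h)),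
      fun ⟨_, c, hc, h⟩ => ⟨⟨c, hc⟩, Subtype.ext h.symm⟩⟩)).symm
  rw [e, Nat.card_fin]

theorem mem_EE {i : ℕ} (hi : i < 22) : mm i ∈ EE := ⟨_, (mm_code hi).1, (mm_code hi).2⟩

/-- the set of the twenty-two members -/
def MM : Set pres.Grp := {x | ∃ i < 22, x = mm i}

theorem EE_closure : Subgroup.closure MM = EE := by
  refine le_antisymm ((Subgroup.closure_le _).mpr ?_) ?_
  · rintro _ ⟨i, hi, rfl⟩; exact mem_EE hi
  · rintro _ ⟨c, -, rfl⟩
    have key : ∀ n ≤ 10, en c n ∈ Subgroup.closure MM := by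
      intro n
      induction n with
      | zero => intro _; exact one_mem _
      | succ n ih =>
        intro hn
        rw [en]
        refine mul_mem (ih (by omega)) ?_
        cases Nat.testBit c n
        · exact one_mem _
        · exact Subgroup.subset_closure ⟨_, bas_lt (by omega), rfl⟩
    exact key 10 le_rfl

/-! ### the representatives -/

/-- one of the seven -/
noncomputable def gg (k : ℕ) : pres.Grp := el (SDat.gws.getD k [])

/-- a representative -/
noncomputable def rr (m : ℕ) : pres.Grp := el (rW m)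

theorem gws_lt {k : ℕ} (hk : k < 7) : ∀ x ∈ SDat.gws.getD k [], x < 9 := by
  intro x hx
  have h := range_spec genperm_ok hk
  simp only [genPermOK, Bool.and_eq_true, List.all_eq_true] at h
  exact Nat.le_of_ble_eq_true (h.1 x hx)

theorem rr_succ {k m : ℕ} (hk : k < 7) (hm : m < 2 ^ k) :
    rr (2 ^ k + m) = gg k * rr m ∧ ∀ i < 22, pim m i < 22 ∧ pim (2 ^ k + m) i < 22 ∧
      pim (2 ^ k + m) i = pim (2 ^ k) (pim m i) := by
  have h := range_spec compose_ok hk
  simp only [composeOK, Bool.and_eq_true, List.all_eq_true, List.mem_range] at h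
  obtain ⟨h1, h2⟩ := h m hm
  refine ⟨?_, fun i hi => ?_⟩
  · rw [rr, rr, gg, ← el_append, eq_of_beq h1]
  · obtain ⟨⟨a, b⟩, c⟩ := h2 i hi
    exact ⟨Nat.le_of_ble_eq_true a, Nat.le_of_ble_eq_true b, nat_beq c⟩

theorem rr_zero : rr 0 = 1 := by rw [rr, eq_of_beq syl_misc.2.2.1, el_nil']

theorem act_gg {k i : ℕ} (hk : k < 7) (hi : i < 22) : act (gg k) (bp i) = bp (pim (2 ^ k) i) := by
  have h := range_spec genperm_ok hk
  simp only [genPermOK, Bool.and_eq_true, List.all_eq_true, List.mem_range] at h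
  rw [gg, act_el (gws_lt hk) (bp_lt hi)]
  exact nat_beq (h.2 i hi)

theorem act_rr : ∀ k ≤ 7, ∀ m < 2 ^ k, ∀ i < 22, pim m i < 22 ∧ act (rr m) (bp i) = bp (pim m i)
  | 0, _, m, hm, i, hi => by
    obtain rfl : m = 0 := by simpa using hm
    rw [syl_misc.2.2.2.2.2.1 i hi, rr_zero, act_one (bp_lt hi)]
    exact ⟨hi, rfl⟩
  | k + 1, hk, m, hm, i, hi => by
    have ih := act_rr k (by omega)
    rcases lt_or_ge m (2 ^ k) with h | h
    · exact ih m h i hi
    · obtain ⟨m', rfl⟩ : ∃ m', m = 2 ^ k + m' := ⟨m - 2 ^ k, by omega⟩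
      have hm' : m' < 2 ^ k := by rw [pow_succ] at hm; omega
      obtain ⟨e, hp⟩ := rr_succ (k := k) (by omega) hm'
      obtain ⟨a, b, c⟩ := hp i hi
      refine ⟨b, ?_⟩
      rw [e, act_mul _ _ (bp_lt hi), (ih m' hm' i hi).2, act_gg (by omega) a, c]

theorem conj_mm (g : pres.Grp) {i : ℕ} (hi : i < 22) : g * mm i * g⁻¹ = (dp (act g (bp i)) : pres.Grp) :=
  (act_dp pts_ok g (bp_lt hi)).symm

/-- the partial groups -/
noncomputable def SS : ℕ → Subgroup pres.Grp
  | 0 => EE
  | k + 1 => SS k ⊔ Subgroup.zpowers (gg k)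

theorem SS_mono (k : ℕ) : EE ≤ SS k := by
  induction k with
  | zero => exact le_rfl
  | succ k ih => exact ih.trans le_sup_left

theorem gg_mem {j k : ℕ} (h : j < k) : gg j ∈ SS k := by
  induction k with
  | zero => omega
  | succ k ih =>
    rcases Nat.lt_succ_iff_lt_or_eq.mp h with h' | rfl
    · exact Subgroup.mem_sup_left (ih h')
    · exact Subgroup.mem_sup_right (Subgroup.mem_zpowers _)

theorem rr_mem : ∀ k ≤ 7, ∀ m < 2 ^ k, rr m ∈ SS k
  | 0, _, m, hm => by
    obtain rfl : m = 0 := by simpa using hm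
    rw [rr_zero]; exact one_mem _
  | k + 1, hk, m, hm => by
    rcases lt_or_ge m (2 ^ k) with h | h
    · exact Subgroup.mem_sup_left (rr_mem k (by omega) m h)
    · obtain ⟨m', rfl⟩ : ∃ m', m = 2 ^ k + m' := ⟨m - 2 ^ k, by omega⟩
      have hm' : m' < 2 ^ k := by rw [pow_succ] at hm; omega
      rw [(rr_succ (k := k) (by omega) hm').1]
      exact mul_mem (Subgroup.mem_sup_right (Subgroup.mem_zpowers _))
        (Subgroup.mem_sup_left (rr_mem k (by omega) m' hm'))

theorem pc_spec {k j : ℕ} (hk : k < 7) (hj : j ≤ k) :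
    (if j = k then gg k * gg k else gg k * gg j * (gg k)⁻¹) ∈ SS k := by
  have h := range_spec pc_ok hk
  simp only [pcOK, Bool.and_eq_true, List.all_eq_true, List.mem_range] at h
  obtain ⟨⟨hm, hc⟩, ht⟩ := h j (by omega)
  set e := (SDat.pc.getD k []).getD j (0, 0)
  have ht' := triv_spec ht
  rw [el_append, el_append, el_rev, el_rev, el_eW, mul_assoc] at ht'
  have hmem : rr e.1 * eG e.2 ∈ SS k :=
    mul_mem (rr_mem k (by omega) _ (Nat.le_of_ble_eq_true hm)) (SS_mono k ⟨_, Nat.le_of_ble_eq_true hc, rfl⟩)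
  rw [← mul_inv_rev, mul_inv_eq_one] at ht'
  split_ifs with hjk
  · rw [show Nat.beq j k = true by rw [hjk]; exact Nat.beq_refl _, cond_true, el_append] at ht'
    exact ht'.symm ▸ hmem
  · rw [show Nat.beq j k = false from Bool.eq_false_iff.mpr fun h' => hjk (nat_beq h'), cond_false, el_append,
      el_append, el_rev] at ht'
    exact ht'.symm ▸ hmem

theorem gg_norm {k : ℕ} (hk : k < 7) : ∀ x ∈ SS k, gg k * x * (gg k)⁻¹ ∈ SS k := by
  have : SS k ≤ (SS k).comap (MulAut.conj (gg k)).toMonoidHom := by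
    suffices h : ∀ j ≤ k, SS j ≤ (SS k).comap (MulAut.conj (gg k)).toMonoidHom from h k le_rfl
    intro j hj
    induction j with
    | zero =>
      rw [SS, ← EE_closure, Subgroup.closure_le]
      rintro _ ⟨i, hi, rfl⟩
      show gg k * mm i * (gg k)⁻¹ ∈ SS k
      rw [conj_mm _ hi, act_gg hk hi]
      have hp := (rr_succ (k := k) hk (Nat.two_pow_pos k)).2 i hi
      exact SS_mono k (mem_EE (by simpa using hp.2.1))
    | succ j ih =>
      rw [SS]
      refine sup_le (ih (by omega)) (Subgroup.zpowers_le.mpr ?_)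
      have := pc_spec hk (show j ≤ k by omega)
      rwa [if_neg (by omega)] at this
  exact fun x hx => this hx

theorem SS_forms : ∀ k ≤ 7, ∀ x ∈ SS k, ∃ m < 2 ^ k, ∃ c < 1024, x = rr m * eG c
  | 0, _, x, hx => by
    obtain ⟨c, hc, rfl⟩ := hx
    exact ⟨0, by norm_num, c, hc, by rw [rr_zero, one_mul]⟩
  | k + 1, hk, x, hx => by
    have hk' : k < 7 := by omega
    have hn := gg_norm hk'
    have hsq : gg k * gg k ∈ SS k := by simpa using pc_spec hk' (le_refl k)
    let U : Subgroup pres.Grp :=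
      { carrier := {y | y ∈ SS k ∨ ∃ h ∈ SS k, y = gg k * h}
        one_mem' := Or.inl (one_mem _)
        mul_mem' := by
          intro a b ha hb
          have hni : ∀ y ∈ SS k, (gg k)⁻¹ * y * gg k ∈ SS k := fun y hy => by
            have := mul_mem (mul_mem (inv_mem hsq) (hn y hy)) hsq
            rwa [show (gg k * gg k)⁻¹ * (gg k * y * (gg k)⁻¹) * (gg k * gg k) = (gg k)⁻¹ * y * gg k by group] at this
          rcases ha with ha | ⟨h, hh, rfl⟩ <;> rcases hb with hb | ⟨h', hh', rfl⟩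
          · exact Or.inl (mul_mem ha hb)
          · exact Or.inr ⟨(gg k)⁻¹ * a * gg k * h', mul_mem (hni a ha) hh', by group⟩
          · exact Or.inr ⟨h * b, mul_mem hh hb, by group⟩
          · refine Or.inl ?_
            rw [show gg k * h * (gg k * h') = gg k * gg k * ((gg k)⁻¹ * h * gg k * h') by group]
            exact mul_mem hsq (mul_mem (hni h hh) hh')
        inv_mem' := by
          intro a ha
          rcases ha with ha | ⟨h, hh, rfl⟩
          · exact Or.inl (inv_mem ha)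
          · refine Or.inr ⟨(gg k * gg k)⁻¹ * (gg k * h⁻¹ * (gg k)⁻¹), mul_mem (inv_mem hsq) (hn _ (inv_mem hh)), ?_⟩
            group }
    have hle : SS (k + 1) ≤ U := by
      rw [SS]
      refine sup_le (fun y hy => Or.inl hy) (Subgroup.zpowers_le.mpr (Or.inr ⟨1, one_mem _, by simp⟩))
    have hp : 2 ^ (k + 1) = 2 ^ k + 2 ^ k := by rw [pow_succ]; omega
    rcases hle hx with h | ⟨h, hh, rfl⟩
    · obtain ⟨m, hm, c, hc, e⟩ := SS_forms k (by omega) x h
      exact ⟨m, by omega, c, hc, e⟩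
    · obtain ⟨m, hm, c, hc, rfl⟩ := SS_forms k (by omega) h hh
      exact ⟨2 ^ k + m, by omega, c, hc, by rw [(rr_succ hk' hm).1, mul_assoc]⟩

/-- the Sylow subgroup -/
noncomputable abbrev SY : Subgroup pres.Grp := SS 7

theorem act_eG {c : ℕ} {i : ℕ} (hi : i < 22) : act (eG c) (bp i) = bp i := by
  have h := conj_mm (eG c) hi
  have hc : Commute (eG c) (mm i) := en_comm_mm c hi 10 le_rfl
  rw [hc.eq, mul_inv_cancel_right] at h
  have h2 := congrArg (fun d : Fischer.Dc => (Fischer.theta d : ℕ)) (Subtype.ext h : dp (bp i) = dp (act (eG c) (bp i)))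
  simpa [theta_dp pts_ok (bp_lt hi), theta_dp pts_ok (act_lt _ (bp_lt hi))] using h2.symm

theorem bp_inj {i j : ℕ} (hi : i < 22) (hj : j < 22) (h : bp i = bp j) : i = j :=
  (show ∀ a < 22, ∀ b < 22, bp a = bp b → a = b by decide +kernel) i hi j hj h

theorem act_form {m c i : ℕ} (hm : m < 128) (hi : i < 22) : act (rr m * eG c) (bp i) = bp (pim m i) := by
  rw [act_mul _ _ (bp_lt hi), act_eG hi, (act_rr 7 le_rfl m hm i hi).2]

theorem pim_eq {m m' : ℕ} (hm : m < 128) (hm' : m' < 128) (h : ∀ i < 22, pim m i = pim m' i) : m = m' := by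
  obtain ⟨-, -, -, hnd, hlen, -⟩ := syl_misc
  have e : SDat.perms.getD m [] = SDat.perms.getD m' [] := by
    refine List.ext_getElem (by rw [hlen m hm, hlen m' hm']) fun i h1 h2 => ?_
    have := h i (hlen m hm ▸ h1)
    rwa [pim, pim, List.getD_eq_getElem _ _ h1, List.getD_eq_getElem _ _ h2] at this
  exact List.inj_on_of_nodup_map hnd (List.mem_range.mpr hm) (List.mem_range.mpr hm') e

theorem form_unique {m c m' c' : ℕ} (hm : m < 128) (hc : c < 1024) (hm' : m' < 128) (hc' : c' < 1024)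
    (h : rr m * eG c = rr m' * eG c') : m = m' ∧ c = c' := by
  have hmm : m = m' := pim_eq hm hm' fun i hi => bp_inj (act_rr 7 le_rfl m hm i hi).1 (act_rr 7 le_rfl m' hm' i hi).1
    (by rw [← act_form (c := c) hm hi, h, act_form hm' hi])
  subst hmm
  exact ⟨rfl, eG_inj hc hc' (mul_left_cancel h)⟩

theorem card_SY : Nat.card ↥SY = 2 ^ 17 := by
  have e : Nat.card ↥SY = Nat.card (Fin 128 × Fin 1024) := (Nat.card_congr (Equiv.ofBijective
    (fun q : Fin 128 × Fin 1024 => (⟨rr q.1.val * eG q.2.val,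
      mul_mem (rr_mem 7 le_rfl _ q.1.2) (SS_mono 7 ⟨_, q.2.2, rfl⟩)⟩ : ↥SY))
    ⟨fun q q' h => by
      obtain ⟨a, b⟩ := form_unique q.1.2 q.2.2 q'.1.2 q'.2.2 (congrArg Subtype.val h)
      exact Prod.ext (Fin.ext a) (Fin.ext b),
    fun ⟨x, hx⟩ => by
      obtain ⟨m, hm, c, hc, rfl⟩ := SS_forms 7 le_rfl x hx
      exact ⟨(⟨m, hm⟩, ⟨c, hc⟩), rfl⟩⟩)).symm
  rw [e, Nat.card_prod, Nat.card_fin, Nat.card_fin]
  norm_num

/-! ### the members in it -/

theorem two_group : IsPGroup 2 ↥SY := IsPGroup.of_card card_SY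

theorem comm_in_SY {d e : pres.Grp} (hd : d ∈ Fischer.Dc) (he : e ∈ Fischer.Dc) (hd' : d ∈ SY) (he' : e ∈ SY) :
    Commute d e := by
  rcases Spor.commute_or_braid Fischer.three.1 hd he with h | hb
  · exact h
  have h2 := Spor.inv_of_order_two (Fischer.three.1.1 d hd)
  have h3 := Spor.inv_of_order_two (Fischer.three.1.1 e he)
  have hcube : (d * e) ^ 3 = 1 := by
    rw [h2, h3] at *
    calc (d * e) ^ 3 = (d * e * d) * (e * d * e) := by simp only [pow_succ, pow_zero, one_mul, mul_assoc]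
      _ = (d * e * d) * (d * e * d) := by rw [hb]
      _ = 1 := by
        have hd1 := Spor.mul_self_of_order_two (Fischer.three.1.1 d hd)
        have he1 := Spor.mul_self_of_order_two (Fischer.three.1.1 e he)
        simp only [mul_assoc]
        rw [← mul_assoc d d, hd1, one_mul, ← mul_assoc e e, he1, one_mul, hd1]
  obtain ⟨n, hn⟩ := two_group ⟨d * e, mul_mem hd' he'⟩
  have hn' : (d * e) ^ 2 ^ n = 1 := congrArg Subtype.val hn
  have hg : orderOf (d * e) ∣ Nat.gcd 3 (2 ^ n) := Nat.dvd_gcd (orderOf_dvd_of_pow_eq_one hcube)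
    (orderOf_dvd_of_pow_eq_one hn')
  rw [Nat.Coprime.gcd_eq_one ((show Nat.Coprime 3 2 by norm_num).pow_right n), Nat.dvd_one, orderOf_eq_one_iff] at hg
  rw [eq_inv_of_mul_eq_one_left hg, h3]

theorem Dc_inter_SY : Subgroup.closure {x : pres.Grp | x ∈ Fischer.Dc ∧ x ∈ SY} = EE := by
  rw [← EE_closure]
  congr 1
  ext x
  constructor
  · rintro ⟨hx, hxS⟩
    set p := (Fischer.theta ⟨x, hx⟩ : ℕ)
    have hp : p < 3510 := (Fischer.theta ⟨x, hx⟩).2
    have e : x = (dp p : pres.Grp) := congrArg Subtype.val (dp_surj pts_ok ⟨x, hx⟩)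
    have hs : scanOK p = true := by
      rcases lt_or_ge p 1755 with hk | hk
      · exact chunk _ _ _ scan0 (Nat.zero_le _) (by omega)
      · exact chunk _ _ _ scan1 hk (by omega)
    simp only [scanOK, Bool.or_eq_true, Bool.not_eq_true'] at hs
    rcases hs with hs | hs
    · exfalso
      rw [List.all_eq_false] at hs
      obtain ⟨i, hi, hne⟩ := hs
      rw [List.mem_range] at hi
      refine hne ?_
      rw [adjb_iff pts_ok (bp_lt hi) hp, ← e]
      exact comm_in_SY (dp (bp i)).2 hx (SS_mono 7 (mem_EE hi)) hxS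
    · obtain ⟨i, hi, hib⟩ := List.getElem_of_mem (mem'_iff.mp hs)
      exact ⟨i, syl_misc.1 ▸ hi, by rw [mm, bp, List.getD_eq_getElem _ _ hi, hib]; exact e⟩
  · rintro ⟨i, hi, rfl⟩
    exact ⟨(dp (bp i)).2, SS_mono 7 (mem_EE hi)⟩

/-! ### the Thompson subgroup -/

theorem cimg_spec {m : ℕ} (hm : m < 128) (c : ℕ) : cimg m c < 1024 ∧ rr m * eG c * (rr m)⁻¹ = eG (cimg m c) := by
  have key : ∀ n ≤ 10, ∀ r, r = (List.range n).foldl (fun r k => bif Nat.testBit c k
      then Nat.xor r (SDat.code.getD (pim m (SDat.bas.getD k 0)) 0) else r) 0 →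
      r < 1024 ∧ rr m * en c n * (rr m)⁻¹ = eG r := by
    intro n
    induction n with
    | zero => intro _ r hr; subst hr; simp [en, eG_zero]
    | succ n ih =>
      intro hn r hr
      obtain ⟨h1, h2⟩ := ih (by omega) _ rfl
      rw [List.range_succ, List.foldl_append, List.foldl_cons, List.foldl_nil] at hr
      rw [en, show rr m * (en c n * bif Nat.testBit c n then mm (SDat.bas.getD n 0) else 1) * (rr m)⁻¹ =
        (rr m * en c n * (rr m)⁻¹) * (rr m * (bif Nat.testBit c n then mm (SDat.bas.getD n 0) else 1) * (rr m)⁻¹)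
          by group, h2]
      cases hb : Nat.testBit c n
      · rw [hb, cond_false] at hr
        rw [cond_false, mul_one, mul_inv_cancel, mul_one, hr]
        exact ⟨h1, rfl⟩
      · rw [hb, cond_true] at hr
        have hbl := bas_lt (k := n) (by omega)
        obtain ⟨hp, ha⟩ := act_rr 7 le_rfl m hm _ hbl
        rw [cond_true, conj_mm _ hbl, ha, ← mm, (mm_code hp).2, eG_mul, hr]
        exact ⟨xor_lt h1 (mm_code hp).1, rfl⟩
  exact key 10 le_rfl _ rfl

theorem elemAb_le {A : Subgroup pres.Grp} (hA : A ≤ SY) (hcomm : ∀ x ∈ A, ∀ y ∈ A, Commute x y)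
    (hexp : ∀ x ∈ A, x * x = 1) (hbig : 1024 ≤ Nat.card ↥A) : A = EE := by
  classical
  suffices hle : A ≤ EE from Subgroup.eq_of_le_of_card_ge hle (by rw [card_EE]; exact hbig)
  intro x hx
  have nf : ∀ y : ↥A, ∃ q : Fin 128 × Fin 1024, (y : pres.Grp) = rr q.1.val * eG q.2.val := fun y => by
    obtain ⟨m, hm, c, hc, e⟩ := SS_forms 7 le_rfl _ (hA y.2)
    exact ⟨(⟨m, hm⟩, ⟨c, hc⟩), e⟩
  choose q hq using nf
  have hact : ∀ y : ↥A, ∀ i < 22, act (y : pres.Grp) (bp i) = bp (pim (q y).1.val i) := fun y i hi => by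
    rw [hq y, act_form (q y).1.2 hi]
  have hinv : ∀ y : ↥A, invol (q y).1.val = true := by
    intro y
    simp only [invol, List.all_eq_true, List.mem_range]
    intro i hi
    have h1 := (act_rr 7 le_rfl _ (q y).1.2 i hi).1
    have e := congrArg (fun g => act g (bp i)) (hexp _ y.2)
    simp only [act_mul _ _ (bp_lt hi), act_one (bp_lt hi), hact y i hi, hact y _ h1] at e
    rw [bp_inj (act_rr 7 le_rfl _ (q y).1.2 _ h1).1 hi e]
    exact Nat.beq_refl _
  have hcom : ∀ y z : ↥A, comm2 (q y).1.val (q z).1.val = true := by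
    intro y z
    simp only [comm2, List.all_eq_true, List.mem_range]
    intro i hi
    have h1 := (act_rr 7 le_rfl _ (q y).1.2 i hi).1
    have h2 := (act_rr 7 le_rfl _ (q z).1.2 i hi).1
    have e := congrArg (fun g => act g (bp i)) (hcomm _ y.2 _ z.2).eq
    simp only [act_mul _ _ (bp_lt hi), hact y i hi, hact z i hi, hact y _ h2, hact z _ h1] at e
    rw [bp_inj (act_rr 7 le_rfl _ (q y).1.2 _ h2).1 (act_rr 7 le_rfl _ (q z).1.2 _ h1).1 e]
    exact Nat.beq_refl _
  have hfix : ∀ y z : ↥A, (q z).1.val = 0 → cimg (q y).1.val (q z).2.val = (q z).2.val := by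
    intro y z hz
    obtain ⟨h1, h2⟩ := cimg_spec (q y).1.2 (q z).2.val
    refine eG_inj h1 (q z).2.2 ?_
    rw [← h2]
    have hzE : (z : pres.Grp) = eG (q z).2.val := by rw [hq z, hz, rr_zero, one_mul]
    have hc : Commute (rr (q y).1.val) (eG (q z).2.val) := by
      have h := hcomm _ y.2 _ z.2
      rw [hzE, hq y] at h
      have := h.mul_left (eG_comm (q y).2.val (q z).2.val).inv_left
      rwa [mul_inv_cancel_right] at this
    rw [hc.eq, mul_inv_cancel_right]
  by_contra hxE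
  set a := (q ⟨x, hx⟩).1.val with hadef
  have ha0 : a ≠ 0 := fun h => hxE ⟨_, (q ⟨x, hx⟩).2.2, by
    have := hq ⟨x, hx⟩; rwa [← hadef, h, rr_zero, one_mul] at this⟩
  have ha : a < 128 := (q ⟨x, hx⟩).1.2
  -- the order is at most the number of permutations times the number of fixed codes
  haveI := Fintype.ofFinite ↥A
  let Im : Finset ℕ := Finset.univ.image fun y : ↥A => (q y).1.val
  let Fx : Finset ℕ := Finset.univ.image fun z : {y : ↥A // (q y).1.val = 0} => (q z.1).2.val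
  have hcount : Nat.card ↥A ≤ Im.card * Fx.card := by
    have hmem : ∀ y : ↥A, (q y).1.val ∈ Im := fun y => Finset.mem_image.mpr ⟨y, Finset.mem_univ _, rfl⟩
    choose s hs using fun m : ↥Im => (show ∃ y : ↥A, (q y).1.val = m.1 by
      obtain ⟨y, -, h⟩ := Finset.mem_image.mp m.2; exact ⟨y, h⟩)
    let r : ↥A → ↥A := fun y => (s ⟨_, hmem y⟩)⁻¹ * y
    have hr0 : ∀ y, (q (r y)).1.val = 0 := by
      intro y
      refine pim_eq (q (r y)).1.2 (by norm_num) fun i hi => ?_
      rw [syl_misc.2.2.2.2.2.1 i hi]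
      refine bp_inj (act_rr 7 le_rfl _ (q (r y)).1.2 i hi).1 hi ?_
      rw [← hact (r y) i hi]
      have hy := hact y i hi
      have hsy := hact (s ⟨_, hmem y⟩) i hi
      rw [hs] at hsy
      show act ((s ⟨_, hmem y⟩ : pres.Grp)⁻¹ * (y : pres.Grp)) (bp i) = bp i
      rw [act_mul _ _ (bp_lt hi), hy, ← hsy, ← act_mul _ _ (bp_lt hi), inv_mul_cancel, act_one (bp_lt hi)]
    let f : ↥A → ↥Im × ↥Fx := fun y => (⟨_, hmem y⟩, ⟨(q (r y)).2.val, Finset.mem_image.mpr ⟨⟨r y, hr0 y⟩, Finset.mem_univ _, rfl⟩⟩)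
    have hf : Function.Injective f := by
      intro y z h
      simp only [f, Prod.ext_iff, Subtype.ext_iff] at h
      obtain ⟨h1, h2⟩ := h
      have e : r y = r z := Subtype.ext (by rw [hq (r y), hq (r z), hr0 y, hr0 z, h2])
      simp only [r] at e
      rw [show (⟨(q z).1.val, hmem z⟩ : ↥Im) = ⟨(q y).1.val, hmem y⟩ from Subtype.ext h1.symm] at e
      exact mul_left_cancel e
    have := Nat.card_le_card_of_injective f hf
    simpa using this
  -- the bound
  have hb := fix_bound ha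
  simp only [fixBoundOK, Bool.or_eq_true, Bool.not_eq_true', Bool.and_eq_true, List.all_eq_true,
    List.mem_filter, List.mem_range] at hb
  rcases hb with (hb | hb) | ⟨h2F, hb⟩
  · exact ha0 (nat_beq hb)
  · rw [hinv ⟨x, hx⟩] at hb; exact Bool.noConfusion hb
  set Fa := (List.range 1024).filter fun c => Nat.beq (cimg a c) c
  have hFx : ∀ c ∈ Fx, ∀ y : ↥A, c < 1024 ∧ cimg (q y).1.val c = c := by
    intro c hc y
    obtain ⟨⟨z, hz⟩, -, rfl⟩ := Finset.mem_image.mp hc
    exact ⟨(q z).2.2, hfix y z hz⟩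
  have hFa : Fx ⊆ Fa.toFinset := fun c hc => by
    obtain ⟨h1, h2⟩ := hFx c hc ⟨x, hx⟩
    simp only [Fa, List.mem_toFinset, List.mem_filter, List.mem_range]
    exact ⟨h1, by rw [h2]; exact Nat.beq_refl _⟩
  by_cases hb2 : ∀ y : ↥A, (q y).1.val = 0 ∨ (q y).1.val = a
  · have hI : Im ⊆ {0, a} := fun m hm => by
      obtain ⟨y, -, rfl⟩ := Finset.mem_image.mp hm
      rcases hb2 y with h | h <;> simp [h]
    have h1 := (Finset.card_le_card hI).trans Finset.card_le_two
    have h2 := (Finset.card_le_card hFa).trans (List.toFinset_card_le _)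
    have h3 := Nat.le_of_ble_eq_true h2F
    have h4 := Nat.mul_le_mul h1 h2
    omega
  push Not at hb2
  obtain ⟨y, hy0, hya⟩ := hb2
  set b := (q y).1.val
  have hb' := hb b ⟨(q y).1.2, hinv y, hcom ⟨x, hx⟩ y⟩
  rcases hb' with (h | h) | h
  · exact hy0 (nat_beq h)
  · exact hya (nat_beq h)
  have hI : Im ⊆ (((List.range 128).filter fun z => invol z && comm2 a z).filter fun z => comm2 b z).toFinset := by
    intro m hm
    obtain ⟨z, -, rfl⟩ := Finset.mem_image.mp hm
    simp only [List.mem_toFinset, List.mem_filter, List.mem_range, Bool.and_eq_true]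
    exact ⟨⟨(q z).1.2, hinv z, hcom ⟨x, hx⟩ z⟩, hcom y z⟩
  have hF : Fx ⊆ (Fa.filter fun c => Nat.beq (cimg b c) c).toFinset := fun c hc => by
    rw [List.mem_toFinset, List.mem_filter]
    exact ⟨List.mem_toFinset.mp (hFa hc), by rw [(hFx c hc y).2]; exact Nat.beq_refl _⟩
  have h1 := (Finset.card_le_card hI).trans (List.toFinset_card_le _)
  have h2 := (Finset.card_le_card hF).trans (List.toFinset_card_le _)
  have h3 := Nat.le_of_ble_eq_true h
  have h4 := Nat.mul_le_mul h1 h2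
  omega

theorem EE_props : (∀ x ∈ EE, ∀ y ∈ EE, Commute x y) ∧ ∀ x ∈ EE, x * x = 1 := by
  refine ⟨?_, ?_⟩
  · rintro _ ⟨c, -, rfl⟩ _ ⟨d, -, rfl⟩; exact eG_comm c d
  · rintro _ ⟨c, -, rfl⟩; exact eG_sq c

end Cfsg.Agent.Lead.Fi22Two.Syl
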