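import Cfsg.Agent.Lib.Lead.Fi22Two.Group
import Cfsg.Agent.Lib.Lead.Fi22Two.SylData

/-!
Checks for a Sylow two-subgroup of Fi22 and its Thompson subgroup.
-/

set_option autoImplicit false
set_option maxRecDepth 100000

namespace Cfsg.Agent.Lead.Fi22Two.Syl

open Cfsg.Agent.Spor.CC Cfsg.Agent.Spor.Fi22Cert Cfsg.Agent.Spor.Fi22Cert.U62Act
open Cfsg.Agent.Spor.M22U Cfsg.Agent.Spor.M22U.Cent

/-- a point of the commuting set -/
def bp (i : ℕ) : ℕ := SDat.B.getD i 0

/-- word of a member -/
def mwd (i : ℕ) : List ℕ := Fischer.tw' (pwP (bp i))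

/-- word of a code, the first n bits -/
def eWn (c : ℕ) : ℕ → List ℕ
  | 0 => []
  | n + 1 => eWn c n ++ bif Nat.testBit c n then mwd (SDat.bas.getD n 0) else []

/-- word of a code -/
def eW (c : ℕ) : List ℕ := eWn c 10

/-- word of a representative, the first k bits -/
def rWn (m : ℕ) : ℕ → List ℕ
  | 0 => []
  | k + 1 => (bif Nat.testBit m k then SDat.gws.getD k [] else []) ++ rWn m k

/-- word of a representative -/
def rW (m : ℕ) : List ℕ := rWn m 7

/-- image of a member index -/
def pim (m i : ℕ) : ℕ := (SDat.perms.getD m []).getD i 0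

/-- image of a code under a permutation -/
def cimg (m c : ℕ) : ℕ :=
  (List.range 10).foldl (fun r k => bif Nat.testBit c k
    then Nat.xor r (SDat.code.getD (pim m (SDat.bas.getD k 0)) 0) else r) 0

/-- the images of the seven generators -/
noncomputable def genPermOK (k : ℕ) : Bool :=
  ((SDat.gws.getD k []).all fun x => Nat.blt x 9) &&
    (List.range 22).all fun i =>
      Nat.beq (ev RepU62.rows 9 (SDat.gws.getD k []) (bp i)) (bp (pim (2 ^ k) i))

/-- the representatives are products of the generators -/
def composeOK (k : ℕ) : Bool :=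
  (List.range (2 ^ k)).all fun m =>
    (rW (2 ^ k + m) == SDat.gws.getD k [] ++ rW m) &&
      (List.range 22).all fun i =>
        Nat.blt (pim m i) 22 && Nat.blt (pim (2 ^ k + m) i) 22 &&
          Nat.beq (pim (2 ^ k + m) i) (pim (2 ^ k) (pim m i))

/-- the members commute and have their coordinates -/
noncomputable def memOK (i : ℕ) : Bool :=
  ((List.range 22).all fun j => adjb (bp i) (bp j)) && Nat.blt (SDat.code.getD i 0) 1024 &&
    triv (mwd i ++ (eW (SDat.code.getD i 0)).reverse)

/-- a code is not trivial -/
noncomputable def injOK (c : ℕ) : Bool :=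
  Nat.beq c 0 || base.any fun b => !(Nat.beq (ev RepU62.rows 9 (eW c) b) b)

/-- power and conjugation relations -/
noncomputable def pcOK (k : ℕ) : Bool :=
  (List.range (k + 1)).all fun j =>
    let e := (SDat.pc.getD k []).getD j (0, 0)
    let w := SDat.gws.getD k []
    Nat.blt e.1 (2 ^ k) && Nat.blt e.2 1024 &&
      triv ((bif Nat.beq j k then w ++ w else w ++ SDat.gws.getD j [] ++ w.reverse) ++
        (eW e.2).reverse ++ (rW e.1).reverse)

/-- no further member commutes with all -/
noncomputable def scanOK (p : ℕ) : Bool :=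
  !((List.range 22).all fun i => adjb (bp i) p) || mem' p SDat.B

/-- composition on a member is a permutation of order at most two -/
def invol (m : ℕ) : Bool := (List.range 22).all fun i => Nat.beq (pim m (pim m i)) i

/-- two permutations commute -/
def comm2 (a b : ℕ) : Bool := (List.range 22).all fun i => Nat.beq (pim a (pim b i)) (pim b (pim a i))

/-- the bound for commuting involutions -/
def fixBoundOK (a : ℕ) : Bool :=
  Nat.beq a 0 || !(invol a) ||
    (let Fa := (List.range 1024).filter fun c => Nat.beq (cimg a c) c
     let Ca := (List.range 128).filter fun x => invol x && comm2 a x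
     Nat.blt (2 * Fa.length) 1024 &&
       Ca.all fun b => Nat.beq b 0 || Nat.beq b a ||
         (let Fab := Fa.filter fun c => Nat.beq (cimg b c) c
          let Cab := Ca.filter fun x => comm2 b x
          Nat.blt (Cab.length * Fab.length) 1024))

end Cfsg.Agent.Lead.Fi22Two.Syl
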