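import Cfsg.Agent.Lib.Lead.Fi22Two.Syl
import Cfsg.Agent.Lib.Spor.M22UNorm
import Cfsg.Agent.Lib.Spor.M22UTransit

/-!
In a group of type M(22) the members in a Sylow two-subgroup generate its Thompson subgroup.
-/

set_option autoImplicit false
set_option maxRecDepth 100000
set_option linter.unusedSectionVars false

namespace Cfsg.Agent.Lead.Fi22Two.Syl

open Cfsg.Agent.Spor.CC Cfsg.Agent.Spor.Fi22Cert Cfsg.Agent.Spor.Fi22Cert.U62Act
open Cfsg.Agent.Spor.M22U

theorem index_SY : ¬ 2 ∣ SY.index := by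
  have h := SY.card_mul_index
  rw [card_SY, order.2.1] at h
  omega

universe u
variable {G : Type u} [Group G] [Finite G] {D : Set G}
variable (hD : Cfsg.IsThreeTranspositionGroup D) (hprim : Cfsg.IsPrimitiveUnderConj D)
  (ht : Cfsg.IsOfTypeM22 G D)

include hD hprim ht in
theorem result (T : Sylow 2 G) :
    Subgroup.closure {x : G | x ∈ D ∧ x ∈ (T : Subgroup G)} = Cfsg.thompsonSubgroupOf 2 (T : Subgroup G) := by
  haveI : Fact (Nat.Prime 2) := ⟨Nat.prime_two⟩
  obtain ⟨e, he⟩ := Norm.iso_fi22 hD hprim ht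
  have hidx : ¬ 2 ∣ (SY.map e.toMonoidHom).index := by
    rw [Subgroup.index_map_of_bijective e.bijective]
    exact index_SY
  let T0 : Sylow 2 G := (two_group.map e.toMonoidHom).toSylow hidx
  obtain ⟨g, hg⟩ := MulAction.exists_smul_eq G T0 T
  set φ : pres.Grp ≃* G := e.trans (MulAut.conj g)
  have hφD : φ '' Fischer.Dc = D := Transit.trans_conj e he g hD.2.1
  have hT : (T : Subgroup G) = SY.map φ.toMonoidHom := by
    have h : ((g • T0 : Sylow 2 G) : Subgroup G) = SY.map φ.toMonoidHom := by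
      show ((SY.map e.toMonoidHom).map (MulAut.conj g).toMonoidHom) = _
      rw [Subgroup.map_map]
      rfl
    rw [← h, hg]
  have hleft : Subgroup.closure {x : G | x ∈ D ∧ x ∈ (T : Subgroup G)} = EE.map φ.toMonoidHom := by
    rw [← Dc_inter_SY, MonoidHom.map_closure]
    congr 1
    ext x
    constructor
    · rintro ⟨hx, hxT⟩
      rw [hT] at hxT
      obtain ⟨y, hy, rfl⟩ := hxT
      rw [← hφD] at hx
      obtain ⟨z, hz, e'⟩ := hx
      exact ⟨y, ⟨φ.injective e' ▸ hz, hy⟩, rfl⟩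
    · rintro ⟨y, ⟨hy, hyS⟩, rfl⟩
      exact ⟨hφD ▸ ⟨y, hy, rfl⟩, hT ▸ ⟨y, hyS, rfl⟩⟩
  rw [hleft, Cfsg.thompsonSubgroupOf]
  set T' : Subgroup G := (T : Subgroup G)
  have hEle : EE.map φ.toMonoidHom ≤ T' := hT ▸ Subgroup.map_mono (SS_mono 7)
  let E' : Subgroup ↥T' := (EE.map φ.toMonoidHom).subgroupOf T'
  have hcardE : Nat.card ↥E' = 1024 := by
    rw [Nat.card_congr (Subgroup.subgroupOfEquivOfLe hEle).toEquiv, Subgroup.card_map_of_injective φ.injective,
      card_EE]
  -- pull back an elementary abelian subgroup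
  have pull : ∀ B : Subgroup ↥T', Cfsg.IsElementaryAbelian 2 B → 1024 ≤ Nat.card ↥B → B = E' := by
    intro B hB hbig
    set A : Subgroup pres.Grp := (B.map T'.subtype).comap φ.toMonoidHom
    have hmap : A.map φ.toMonoidHom = B.map T'.subtype :=
      Subgroup.map_comap_eq_self_of_surjective φ.surjective _
    have hA : A ≤ SY := by
      intro a ha
      have h1 : φ a ∈ T' := Subgroup.map_subtype_le _ ha
      rw [hT] at h1
      obtain ⟨b, hb, e'⟩ := h1
      exact φ.injective e' ▸ hb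
    have hcard : Nat.card ↥A = Nat.card ↥B := by
      rw [Nat.card_congr (A.equivMapOfInjective φ.toMonoidHom φ.injective).toEquiv, hmap,
        Subgroup.card_map_of_injective T'.subtype_injective]
    have hA' : A = EE := by
      refine elemAb_le hA (fun x hx y hy => ?_) (fun x hx => ?_) (hcard ▸ hbig)
      · obtain ⟨u, hu, eu⟩ := hx
        obtain ⟨v, hv, ev⟩ := hy
        apply φ.injective
        rw [map_mul, map_mul]
        show φ.toMonoidHom x * φ.toMonoidHom y = φ.toMonoidHom y * φ.toMonoidHom x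
        rw [← eu, ← ev, ← map_mul, ← map_mul]
        exact congrArg T'.subtype (congrArg Subtype.val (hB.1.1.comm (⟨u, hu⟩ : B) ⟨v, hv⟩))
      · obtain ⟨u, hu, eu⟩ := hx
        apply φ.injective
        rw [map_mul, map_one]
        show φ.toMonoidHom x * φ.toMonoidHom x = 1
        rw [← eu, ← map_mul, ← pow_two, hB.2 u hu, map_one]
    apply Subgroup.map_injective T'.subtype_injective
    rw [Subgroup.subgroupOf_map_subtype, inf_of_le_left hEle, ← hA', hmap]
  have hEel : Cfsg.IsElementaryAbelian 2 E' := by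
    constructor
    · refine ⟨⟨fun a b => Subtype.ext (Subtype.ext ?_)⟩⟩
      obtain ⟨x, hx, ex⟩ := (Subgroup.mem_subgroupOf.mp a.2 : ((a : ↥T') : G) ∈ EE.map φ.toMonoidHom)
      obtain ⟨y, hy, ey⟩ := (Subgroup.mem_subgroupOf.mp b.2 : ((b : ↥T') : G) ∈ EE.map φ.toMonoidHom)
      show ((a : ↥T') : G) * ((b : ↥T') : G) = ((b : ↥T') : G) * ((a : ↥T') : G)
      rw [← ex, ← ey]
      exact ((EE_props.1 x hx y hy).map φ.toMonoidHom).eq
    · intro a ha
      obtain ⟨x, hx, ex⟩ := (Subgroup.mem_subgroupOf.mp ha : (a : G) ∈ EE.map φ.toMonoidHom)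
      refine Subtype.ext ?_
      show (a : G) ^ 2 = 1
      rw [← ex, pow_two, ← map_mul, EE_props.2 x hx, map_one]
  have hJ : Cfsg.thompsonSubgroup 2 ↥T' = E' := by
    refine le_antisymm (sSup_le ?_) (le_sSup ?_)
    · rintro B ⟨hB, hmax⟩
      rw [pull B hB (hcardE ▸ hmax E' hEel)]
    · refine ⟨hEel, fun B hB => ?_⟩
      by_contra h
      push Not at h
      rw [pull B hB (by omega)] at h
      omega
  rw [hJ, Subgroup.subgroupOf_map_subtype, inf_of_le_left hEle]

end Cfsg.Agent.Lead.Fi22Two.Syl
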